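import Cfsg.Agent.Lib.Fischer.Relations.Hexad

/-!
# Hyperbolic pairs and hyperovals

A hyperbolic pair has exactly one further isotropic point on its line, and the six points of a hyperoval
of a totally isotropic plane have zero displacement.
-/

set_option autoImplicit false
set_option linter.unusedSectionVars false

namespace Cfsg.Lib.Fischer.Relations.Linear

open Module Cfsg.Lib.Linear.Herm Cfsg.Agent.S1631

variable {F V : Type*} [Field F] [Fintype F] [AddCommGroup V] [Module F V] [FiniteDimensional F V]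
  {σ : F →+* F} {B : V →ₛₗ[σ] V →ₗ[F] F} (hK : FourField F σ) (hS : B.IsSymm) (hB : B.Nondegenerate)
include hK hS hB

/-- The common perp of a hyperbolic pair is spanned by its isotropic vectors. -/
theorem span_iso_pair (h5 : 5 ≤ finrank F V) {p q : V} (hp : B p p = 0) (hq : B q q = 0) (hpq : B p q ≠ 0)
    {W : Type*} [AddCommGroup W] [Module F W] (f : V →ₗ[F] W)
    (hf : ∀ r, B r r = 0 → r ≠ 0 → B p r = 0 → B q r = 0 → f r = 0) {u : V} (hpu : B p u = 0)
    (hqu : B q u = 0) : f u = 0 := by
  have hf' : ∀ r, B r r = 0 → B p r = 0 → B q r = 0 → f r = 0 := fun r h1 h2 h3 => by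
    rcases eq_or_ne r 0 with rfl | h0
    · exact map_zero f
    · exact hf r h1 h0 h2 h3
  rcases fixed_cases hK (hS.eq u u) with h | h
  · exact hf' u h hpu hqu
  obtain ⟨z, hpz, hqz, huz, hzz⟩ : ∃ z, B p z = 0 ∧ B q z = 0 ∧ B u z = 0 ∧ B z z = 1 := by
    by_contra hcon
    push Not at hcon
    have h0 : ∀ z, B p z = 0 → B q z = 0 → B u z = 0 → B z z = 0 := fun z h1 h2 h3 =>
      (fixed_cases hK (hS.eq z z)).resolve_right (hcon z h1 h2 h3)
    obtain ⟨ω, hω⟩ := exists_omega hK hS hB
    have hker : LinearMap.ker ((B p).prod ((B q).prod (B u))) = ⊥ := by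
      rw [eq_bot_iff]
      intro a ha
      simp only [LinearMap.ker_prod, Submodule.mem_inf, LinearMap.mem_ker] at ha
      obtain ⟨hpa, hqa, hua⟩ := ha
      have hzero : ∀ b, B p b = 0 → B q b = 0 → B u b = 0 → B a b = 0 := by
        intro b hb hb' hb''
        have key : ∀ c : F, σ c * B b a + c * B a b = 0 := fun c => by
          have h' := h0 (a + c • b) (by simp [hpa, hb]) (by simp [hqa, hb']) (by simp [hua, hb''])
          simp only [map_add, LinearMap.add_apply, LinearMap.map_smulₛₗ, LinearMap.smul_apply, map_smul,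
            smul_eq_mul, RingHom.id_apply, h0 a hpa hqa hua, h0 b hb hb' hb'', mul_zero, add_zero, zero_add] at h'
          linear_combination h'
        have h1 := key 1
        rw [map_one, one_mul, one_mul] at h1
        have h3 : (σ ω - ω) * B a b = 0 := by linear_combination (σ ω) * h1 - key ω
        exact (mul_eq_zero.mp h3).resolve_left (sub_ne_zero.mpr hω)
      have hmem : a ∈ Submodule.span F ({p, q, u} : Set V) := by
        by_contra hna
        obtain ⟨v, hv, hav⟩ := exists_perp_ne_zero hK.invol hS hB _ hna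
        exact hav (hzero v (hv p (Submodule.subset_span (by simp))) (hv q (Submodule.subset_span (by simp)))
          (hv u (Submodule.subset_span (by simp))))
      obtain ⟨α, β, γ, rfl⟩ : ∃ α β γ : F, a = α • p + β • q + γ • u := by
        rw [Submodule.mem_span_insert] at hmem
        obtain ⟨α, y, hy, rfl⟩ := hmem
        obtain ⟨β, γ, rfl⟩ := Submodule.mem_span_pair.1 hy
        exact ⟨α, β, γ, (add_assoc _ _ _).symm⟩
      have hqp : B q p ≠ 0 := fun e => hpq (hS.isRefl _ _ e)
      have hup : B u p = 0 := hS.isRefl _ _ hpu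
      have huq : B u q = 0 := hS.isRefl _ _ hqu
      simp only [map_add, map_smul, smul_eq_mul, hp, hq, hpu, hqu, hup, huq, h, mul_zero, mul_one, add_zero,
        zero_add, mul_eq_zero, hpq, hqp, or_false] at hpa hqa hua
      simp [hpa, hqa, hua]
    have h1 := LinearMap.finrank_range_add_finrank_ker ((B p).prod ((B q).prod (B u)))
    have h2 := Submodule.finrank_le (LinearMap.range ((B p).prod ((B q).prod (B u))))
    rw [Module.finrank_prod, Module.finrank_prod, Module.finrank_self] at h2
    rw [hker, finrank_bot] at h1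
    omega
  have hzu : B z u = 0 := hS.isRefl _ _ huz
  obtain ⟨ω, hω⟩ := exists_omega hK hS hB
  have hω0 : ω ≠ 0 := fun e => hω (by rw [e, map_zero])
  have hω1 : ω ≠ 1 := fun e => hω (by rw [e, map_one])
  have hN : σ ω * ω = 1 := by rw [hK.sq]; exact hK.cube ω hω0
  have h1 : f (u + z) = 0 := by
    refine hf' _ ?_ (by simp [hpu, hpz]) (by simp [hqu, hqz])
    simp only [map_add, LinearMap.add_apply, h, huz, hzu, hzz, add_zero, zero_add]
    linear_combination hK.two
  have h2 : f (u + ω • z) = 0 := by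
    refine hf' _ ?_ (by simp [hpu, hpz]) (by simp [hqu, hqz])
    simp only [map_add, LinearMap.add_apply, LinearMap.map_smulₛₗ, LinearMap.smul_apply, map_smul,
      smul_eq_mul, RingHom.id_apply, h, huz, hzu, hzz, mul_zero, mul_one, add_zero, zero_add]
    linear_combination hN + hK.two
  rw [map_add] at h1
  rw [map_add, map_smul] at h2
  have h3 : (1 - ω) • f z = 0 := by
    rw [sub_smul, one_smul]
    calc f z - ω • f z = (f u + f z) - (f u + ω • f z) := by abel
      _ = 0 := by rw [h1, h2, sub_zero]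
  rw [smul_eq_zero, sub_eq_zero] at h3
  rw [h3.resolve_left (fun e => hω1 e.symm), add_zero] at h1
  exact h1

/-- The isotropic points perpendicular to the common perp of a hyperbolic pair. -/
theorem hyperbolic_third (h5 : 5 ≤ finrank F V) {p q r : V} (hp : B p p = 0) (hq : B q q = 0)
    (hpq : B p q ≠ 0) (hr : B r r = 0)
    (h : ∀ s, B s s = 0 → s ≠ 0 → B p s = 0 → B q s = 0 → B r s = 0) :
    (∃ k : F, r = k • p) ∨ (∃ k : F, r = k • q) ∨ ∃ k : F, r = k • (p + (B p q)⁻¹ • q) := by
  have hqp : B q p ≠ 0 := fun e => hpq (hS.isRefl _ _ e)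
  obtain ⟨α, hα⟩ : ∃ α, α = B q r / B q p := ⟨_, rfl⟩
  obtain ⟨β, hβ⟩ : ∃ β, β = B p r / B p q := ⟨_, rfl⟩
  obtain ⟨u, hu⟩ : ∃ u, u = r - α • p - β • q := ⟨_, rfl⟩
  have hpu : B p u = 0 := by simp [hu, hp, hβ, hpq]
  have hqu : B q u = 0 := by simp [hu, hq, hα, hqp]
  have hall : ∀ v, B u v = 0 := by
    intro v
    have hperp : ∀ v', B p v' = 0 → B q v' = 0 → B u v' = 0 := fun v' h1 h2 => by
      have := span_iso_pair hK hS hB h5 hp hq hpq (B r) h h1 h2
      simp [hu, this, h1, h2]
    have hup : B u p = 0 := hS.isRefl _ _ hpu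
    have huq : B u q = 0 := hS.isRefl _ _ hqu
    have := hperp (v - (B q v / B q p) • p - (B p v / B p q) • q) (by simp [hp, hpq]) (by simp [hq, hqp])
    simpa [hup, huq] using this
  have hr' : r = α • p + β • q := by
    rw [← sub_eq_zero, ← hB.1 u hall, hu]; abel
  rcases eq_or_ne α 0 with h0 | ha0
  · exact Or.inr (Or.inl ⟨β, by rw [hr', h0, zero_smul, zero_add]⟩)
  rcases eq_or_ne β 0 with h0 | hb0
  · exact Or.inl ⟨α, by rw [hr', h0, zero_smul, add_zero]⟩
  refine Or.inr (Or.inr ⟨α, ?_⟩)
  obtain ⟨t, rfl⟩ : ∃ t, β = α * t := ⟨α⁻¹ * β, by rw [← mul_assoc, mul_inv_cancel₀ ha0, one_mul]⟩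
  have hr'' : r = α • (p + t • q) := by rw [hr', smul_add, smul_smul]
  rw [hr'']
  have h1 : B (p + t • q) (p + t • q) = 0 := by
    simp only [hr'', LinearMap.map_smulₛₗ, LinearMap.smul_apply, map_smul, smul_eq_mul, RingHom.id_apply,
      mul_eq_zero, map_eq_zero, ha0, false_or] at hr
    exact hr
  simp only [map_add, LinearMap.add_apply, LinearMap.map_smulₛₗ, LinearMap.smul_apply, map_smul, smul_eq_mul,
    RingHom.id_apply, hp, hq, mul_zero, add_zero, zero_add] at h1
  have h2 : σ (t * B p q) = t * B p q := by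
    rw [map_mul, hS.eq]
    linear_combination h1 - (t * B p q) * hK.two
  rcases fixed_cases hK h2 with e | e
  · exact absurd ((mul_eq_zero.1 e).resolve_right hpq) (right_ne_zero_of_mul hb0)
  · rw [eq_inv_of_mul_eq_one_left e]

/-- A hyperoval of a totally isotropic plane has zero displacement. -/
theorem hyperoval_act {w z u : V} {ω l : F} (hω : σ ω ≠ ω) (hl : l ≠ 0) (x : V) :
    act B [w, z, u, w + z + l • u, w + ω • z + (l * σ ω) • u, w + σ ω • z + (l * ω) • u] x = 0 := by
  have hω0 : ω ≠ 0 := fun e => hω (by rw [e, map_zero])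
  have hω1 : ω ≠ 1 := fun e => hω (by rw [e, map_one])
  have hN : ω * ω * ω = 1 := hK.cube ω hω0
  have h2 : ω * ω + ω + 1 = 0 := by
    have : (ω - 1) * (ω * ω + ω + 1) = 0 := by linear_combination hN
    exact (mul_eq_zero.1 this).resolve_left (sub_ne_zero.2 hω1)
  have hL : l * l * l = 1 := hK.cube l hl
  have htwo := hK.two
  simp only [act_cons, show act B ([] : List V) x = 0 from rfl, add_zero, map_add, LinearMap.add_apply,
    LinearMap.map_smulₛₗ, LinearMap.smul_apply, smul_eq_mul, hK.invol, hK.sq ω, map_mul, hK.sq l]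
  match_scalars
  · linear_combination (2 * B w x) * htwo + (B z x + B u x * (l * l)) * h2 +
      (B z x * ω + B u x * (l * l) * ω) * hN
  · linear_combination B w x * h2 + (2 * B z x) * htwo + (2 * B z x + B z x * (ω * ω * ω)) * hN
      + (B u x * (l * l)) * h2 + (B u x * (l * l) * (ω + ω * ω)) * hN
  · linear_combination (B w x * l) * h2 + (2 * B u x) * htwo + (B z x * l) * h2 + (3 * B u x) * hL
      + (B u x * (l * l * l) * (ω * ω * ω + 2) + B z x * l * (ω + ω * ω)) * hN

end Cfsg.Lib.Fischer.Relations.Linear
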