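import Cfsg.Agent.Lib.Fischer.Relations.M22
import Cfsg.Agent.Lib.Fischer.Relations.Plane

/-!
# The centre and perfection of a neighbourhood group in type M(22)

A member outside `d` is fixed, or sent to its image under `d`, by whatever centralizes the neighbours of `d`,
so the neighbourhood group has centre generated by `d`. Two hexads on one triple show that it is perfect.
-/

set_option autoImplicit false
set_option linter.unusedSectionVars false

namespace Cfsg.Lib.Fischer.Relations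

open Module Cfsg Cfsg.Lib.Fischer Cfsg.Lib.Linear.Herm Cfsg.Agent.S1631 Cfsg.Lib.Fischer.RadicalAbelian
open scoped commutatorElement

variable {G : Type*} [Group G] [Finite G] {D : Set G}
  {F : Type} [Field F] [Fintype F] {hF : Fintype.card F = 2 ^ 2}
variable (hFD : IsFischer D) (hU : ∀ d ∈ D, Nonempty (UData (perp D d) (hB hF 6))) {d : G} (hd : d ∈ D)
include hFD hU hd

/-- At most one further member sees the common neighbours of `d` and `c`. -/
theorem trace_unique {c x x' : G} (hc : c ∈ D) (hx : x ∈ D) (hx' : x' ∈ D) (hdc : ¬ Commute d c)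
    (hdx : ¬ Commute d x) (hdx' : ¬ Commute d x') (hxc : x ≠ c) (hxc' : x' ≠ c)
    (h : ∀ s ∈ common D d c, Commute x s) (h' : ∀ s ∈ common D d c, Commute x' s) : x = x' := by
  have hK := fourField hF
  have hS := hB_isSymm hF 6
  have hB' := hB_nondegenerate hF 6
  have h5 : 5 ≤ finrank F (Fin 6 → F) := by rw [finrank_fin_fun]; norm_num
  obtain ⟨y, hy, hcy⟩ := common_nonempty hFD hd hc hdc
  obtain ⟨U⟩ := hU y hy.1
  have hdp : d ∈ perp D y := ⟨hd, hy.2.1.symm, hy.2.2.symm⟩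
  have hcp : c ∈ perp D y := ⟨hc, fun e => hdc (e ▸ hy.2.2), hcy.symm⟩
  have hne : hB hF 6 (U.c d) (U.c c) ≠ 0 := fun e => hdc ((U.comm d hdp c hcp).2 e)
  have key : ∀ v : G, v ∈ D → ¬ Commute d v → v ≠ c → (∀ s ∈ common D d c, Commute v s) →
      v ∈ perp D y ∧ ∃ k : F, U.c v = k • (U.c d + (hB hF 6 (U.c d) (U.c c))⁻¹ • U.c c) := by
    intro v hv hdv hvc hvs
    have hvp : v ∈ perp D y := ⟨hv, fun e => hdv (e ▸ hy.2.2), (hvs y ⟨hy, hcy⟩).symm⟩
    refine ⟨hvp, ?_⟩
    have hside : ∀ s, hB hF 6 s s = 0 → s ≠ 0 → hB hF 6 (U.c d) s = 0 → hB hF 6 (U.c c) s = 0 →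
        hB hF 6 (U.c v) s = 0 := fun s hs hs0 hds hcs => by
      obtain ⟨e, he, k, hk, hec⟩ := U.every s hs hs0
      have hce : Commute c e := (U.comm c hcp e he).2 (by rw [hec, map_smul, hcs, smul_zero])
      have hde : Commute d e := (U.comm d hdp e he).2 (by rw [hec, map_smul, hds, smul_zero])
      have hved : e ≠ d := fun h => hdc (h ▸ hce).symm
      have h1 := (U.comm v hvp e he).1 (hvs e ⟨⟨he.1, hved, hde⟩, hce⟩)
      rw [hec, map_smul, smul_eq_mul] at h1
      exact (mul_eq_zero.1 h1).resolve_left hk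
    rcases Linear.hyperbolic_third hK hS hB' h5 (U.iso d hdp) (U.iso c hcp) hne (U.iso v hvp) hside with
      ⟨k, hk⟩ | ⟨k, hk⟩ | hk
    · exact absurd (U.inj d hdp v hvp k hk ▸ Commute.refl d) hdv
    · exact absurd (U.inj c hcp v hvp k hk).symm hvc
    · exact hk
  obtain ⟨hxp, k, hk⟩ := key x hx hdx hxc h
  obtain ⟨hxp', k', hk'⟩ := key x' hx' hdx' hxc' h'
  have hk0 : k ≠ 0 := fun e => U.ne x hxp (by rw [hk, e, zero_smul])
  exact U.inj x hxp x' hxp' (k' * k⁻¹) (by rw [hk', hk, smul_smul, mul_assoc, inv_mul_cancel₀ hk0, mul_one])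

/-- What centralizes `d` and its neighbours is `1` or `d`. -/
theorem eq_or_eq_of_centralizes (hprim : Cfsg.IsPrimitiveUnderConj D) (hZ : Subgroup.center G = ⊥) {z : G}
    (hzd : Commute z d) (hz : ∀ y ∈ perp D d, Commute z y) : z = 1 ∨ z = d := by
  have hD := hFD.toTrans
  have hcentral : ∀ g : G, (∀ c ∈ D, Commute g c) → g = 1 := fun g hg => by
    rw [← Subgroup.mem_bot, ← hZ, Subgroup.mem_center_iff]
    intro x
    have hle : Subgroup.closure D ≤ Subgroup.centralizer ({g} : Set G) :=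
      (Subgroup.closure_le _).2 fun c hc => Subgroup.mem_centralizer_singleton_iff.2 (hg c hc).eq.symm
    exact Subgroup.mem_centralizer_singleton_iff.1 (hle (hD.gen ▸ Subgroup.mem_top x))
  have hfix : ∀ c ∈ D, Commute d c → Commute z c := fun c hc hdc => by
    rcases eq_or_ne c d with rfl | hne
    exacts [hzd, hz c ⟨hc, hne, hdc⟩]
  by_cases hex : ∃ c ∈ D, ¬ Commute d c ∧ Commute z c
  · obtain ⟨c, hc, hdc, hzc⟩ := hex
    refine Or.inl (hcentral z ?_)
    obtain ⟨a, ha, hne, hda⟩ := exists_perp hFD hd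
    obtain ⟨K, hK⟩ : ∃ K, K = Subgroup.closure {x | x ∈ D ∧ Commute z x} := ⟨_, rfl⟩
    have hKD : Cfsg.IsDSubgroup D K := hK ▸
      le_antisymm ((Subgroup.closure_le _).2 fun x hx => hx.2)
        (Subgroup.closure_mono fun x hx => ⟨hx.1, Subgroup.subset_closure hx⟩)
    rcases closure_maximal hD hprim ⟨d, hd, a, ha, hne.symm, hda⟩ hd K hKD
      (hK ▸ Subgroup.closure_mono fun x hx => ⟨hx.1, hfix x hx.1 hx.2⟩) with h | h
    · exfalso
      have hle : Subgroup.closure {x : G | x ∈ D ∧ Commute d x} ≤ Subgroup.centralizer ({d} : Set G) :=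
        (Subgroup.closure_le _).2 fun x hx => Subgroup.mem_centralizer_singleton_iff.2 hx.2.eq.symm
      have hcK : c ∈ K := hK ▸ Subgroup.subset_closure ⟨hc, hzc⟩
      exact hdc (Subgroup.mem_centralizer_singleton_iff.1 (hle (h ▸ hcK))).symm
    · intro x hx
      have hle : K ≤ Subgroup.centralizer ({z} : Set G) := hK ▸
        (Subgroup.closure_le _).2 fun y hy => Subgroup.mem_centralizer_singleton_iff.2 hy.2.eq.symm
      exact (Subgroup.mem_centralizer_singleton_iff.1 (hle (h ▸ Subgroup.mem_top x))).symm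
  push Not at hex
  refine Or.inr ?_
  have hall : ∀ c ∈ D, Commute (d * z) c := by
    intro c hc
    by_cases hdc : Commute d c
    · exact hdc.mul_left (hfix c hc hdc)
    have hnzc := hex c hc hdc
    have hx : z * c * z⁻¹ ∈ D := hD.conj z c hc
    have hdx : ¬ Commute d (z * c * z⁻¹) := fun h => hdc ((Commute.conj_iff z).1 (by
      rwa [hzd.eq, mul_inv_cancel_right]))
    have hdx' : ¬ Commute d (cj d c) := fun h => hdc ((commute_cj hD hd).1 (by simpa [cj_self hD hd] using h))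
    have h1 : z * c * z⁻¹ = cj d c := by
      refine trace_unique hFD hU hd hc hx (cj_mem hD hd hc) hdc hdx hdx'
        (fun h => hnzc (mul_inv_eq_iff_eq_mul.1 h)) (fun h => hdc ((cj_eq_self hD hd).1 h)) (fun s hs => ?_)
        (fun s hs => ?_)
      · have hzs := hz s hs.1
        have := (Commute.conj_iff z).2 hs.2
        rwa [hzs.eq, mul_inv_cancel_right] at this
      · have hds : Commute d s := hs.1.2.2
        exact (hds.mul_left hs.2).mul_left hds
    show d * z * c = c * (d * z)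
    rw [mul_inv_eq_iff_eq_mul.1 h1 |> (fun e => show d * z * c = d * (cj d c * z) by rw [mul_assoc, e]), cj_def,
      ← mul_assoc, ← mul_assoc, ← mul_assoc, mul_self hD hd, one_mul, mul_assoc]
  have := hcentral _ hall
  rw [eq_inv_of_mul_eq_one_right this, inv_eq hD hd]

set_option maxHeartbeats 2000000 in
/-- The neighbourhood group is perfect and contains `d`. -/
theorem perp_perfect (hprim : Cfsg.IsPrimitiveUnderConj D) (hZ : Subgroup.center G = ⊥)
    (hsep : ∀ a ∈ D, ∀ b ∈ D, (∀ e ∈ D, Commute a e ↔ Commute b e) → a = b) :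
    d ∈ Subgroup.closure (perp D d) ∧
      ⁅Subgroup.closure (perp D d), Subgroup.closure (perp D d)⁆ = Subgroup.closure (perp D d) := by
  classical
  have hD := hFD.toTrans
  have hK := fourField hF
  have hS := hB_isSymm hF 6
  have hB' := hB_nondegenerate hF 6
  have h5 : 5 ≤ finrank F (Fin 6 → F) := by rw [finrank_fin_fun]; norm_num
  obtain ⟨U⟩ := hU d hd
  obtain ⟨H, hH⟩ : ∃ H, H = Subgroup.closure (perp D d) := ⟨_, rfl⟩
  rw [← hH]
  have hmem : ∀ a ∈ perp D d, a ∈ H := fun a ha => hH ▸ Subgroup.subset_closure ha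
  have hpair : ∀ a ∈ perp D d, ∀ b ∈ perp D d, a * b ∈ ⁅H, H⁆ := fun a ha b hb => by
    obtain ⟨g, hg, rfl⟩ := perp_transitive hFD hd ha hb
    have := Subgroup.commutator_mem_commutator (hmem a ha) (hH ▸ hg : g ∈ H)
    rwa [commutatorElement_def, inv_eq hD ha.1, mul_assoc a g, mul_assoc a] at this
  obtain ⟨vec, hvec⟩ : ∃ vec : F → F → F → (Fin 6 → F), vec = fun a b c => ![a, a, b, b, c, c] := ⟨_, rfl⟩
  have hperp : ∀ a b c a' b' c', hB hF 6 (vec a b c) (vec a' b' c') = 0 := fun a b c a' b' c' => by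
    simp only [hB_apply, Cfsg.hermForm, hvec, Fin.sum_univ_six, Matrix.cons_val_zero, Matrix.cons_val_one,
      Matrix.cons_val]
    linear_combination (a' * a ^ 2 + b' * b ^ 2 + c' * c ^ 2) * hK.two
  have hcoord : ∀ (a b c a' b' c' k : F), vec a b c = k • vec a' b' c' → a = k * a' ∧ b = k * b' ∧ c = k * c' :=
    fun a b c a' b' c' k h => by
      refine ⟨?_, ?_, ?_⟩
      · have := congrFun h 0; simpa [hvec] using this
      · have := congrFun h 2; simpa [hvec] using this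
      · have := congrFun h 4; simpa [hvec] using this
  have hne0 : ∀ a b c, (a = 1 ∨ b = 1 ∨ c = 1) → vec a b c ≠ 0 := fun a b c h h0 => by
    obtain ⟨ha, hb, hc⟩ := hcoord a b c 0 0 0 0 (by rw [zero_smul]; exact h0)
    simp only [mul_zero] at ha hb hc
    rcases h with h | h | h
    exacts [one_ne_zero (h ▸ ha), one_ne_zero (h ▸ hb), one_ne_zero (h ▸ hc)]
  choose p hpS k hk hpc using fun b c : F =>
    U.every _ (hperp 1 b c 1 b c) (hne0 1 b c (Or.inl rfl))
  obtain ⟨B₀, hB₀S, kB, hkB, hBc⟩ := U.every _ (hperp 0 1 0 0 1 0) (hne0 0 1 0 (Or.inr (Or.inl rfl)))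
  obtain ⟨C₀, hC₀S, kC, hkC, hCc⟩ := U.every _ (hperp 0 0 1 0 0 1) (hne0 0 0 1 (Or.inr (Or.inr rfl)))
  have hpinj : ∀ b c b' c', p b c = p b' c' → b = b' ∧ c = c' := fun b c b' c' h => by
    have e : k b c • vec 1 b c = k b' c' • vec 1 b' c' := by rw [← hpc, ← hpc, h]
    obtain ⟨h1, h2, h3⟩ := hcoord 1 b c 1 b' c' ((k b c)⁻¹ * k b' c') (by
      rw [mul_smul, ← e, smul_smul, inv_mul_cancel₀ (hk b c), one_smul])
    rw [mul_one] at h1
    rw [← h1, one_mul] at h2 h3
    exact ⟨h2, h3⟩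
  have hpB : ∀ b c, p b c ≠ B₀ := fun b c h => by
    obtain ⟨h1, -, -⟩ := hcoord 1 b c 0 1 0 ((k b c)⁻¹ * kB) (by
      rw [mul_smul, ← hBc, ← h, hpc, smul_smul, inv_mul_cancel₀ (hk b c), one_smul])
    simp at h1
  have hpC : ∀ b c, p b c ≠ C₀ := fun b c h => by
    obtain ⟨h1, -, -⟩ := hcoord 1 b c 0 0 1 ((k b c)⁻¹ * kC) (by
      rw [mul_smul, ← hCc, ← h, hpc, smul_smul, inv_mul_cancel₀ (hk b c), one_smul])
    simp at h1
  have hBC : B₀ ≠ C₀ := fun h => by
    obtain ⟨-, h1, -⟩ := hcoord 0 1 0 0 0 1 (kB⁻¹ * kC) (by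
      rw [mul_smul, ← hCc, ← h, hBc, smul_smul, inv_mul_cancel₀ hkB, one_smul])
    simp at h1
  obtain ⟨ω, hω⟩ := Linear.exists_omega hK hS hB'
  have hω0 : ω ≠ 0 := fun e => hω (by rw [e, map_zero])
  have hω1 : ω ≠ 1 := fun e => hω (by rw [e, map_one])
  have hsω1 : frob hF ω ≠ 1 := fun e => hω1 ((frob hF).injective (by rw [e, map_one]))
  -- the five members on a line
  have hAB : Commute (p 0 0) B₀ :=
    (U.comm _ (hpS 0 0) _ hB₀S).2 (by rw [hpc, hBc, map_smul, LinearMap.map_smulₛₗ, LinearMap.smul_apply,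
      hperp, smul_zero, smul_zero])
  obtain ⟨e, f, g, he, hf, hg, hnd5, hc5, hp5, -⟩ := U.exists_five hK hS hB' h5 (hpS 0 0) hB₀S (hpB 0 0) hAB
  have hin5 : ∀ x ∈ [p 0 0, B₀, e, f, g], x ∈ perp D d := by simp [hpS, hB₀S, he, hf, hg]
  have hfive : [p 0 0, B₀, e, f, g].prod = d :=
    line_prod hD hK hS hB' h5 hprim hZ hsep hd U (b := p 0 0) (t := [B₀, e, f, g]) rfl hnd5 hin5 hc5 hp5
  have hdH : d ∈ H := hfive ▸ list_prod_mem fun x hx => hmem x (hin5 x hx)
  refine ⟨hdH, ?_⟩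
  suffices hdC : d ∈ ⁅H, H⁆ by
    refine le_antisymm (Subgroup.commutator_le.2 fun x hx y hy =>
      mul_mem (mul_mem (mul_mem hx hy) (inv_mem hx)) (inv_mem hy)) ?_
    have hA : p 0 0 ∈ ⁅H, H⁆ := by
      have : p 0 0 = d * (B₀ * e * (f * g))⁻¹ := by
        rw [eq_mul_inv_iff_mul_eq, ← hfive]; simp [mul_assoc]
      rw [this]
      exact mul_mem hdC (inv_mem (mul_mem (hpair _ hB₀S _ he) (hpair _ hf _ hg)))
    conv_lhs => rw [hH]
    refine (Subgroup.closure_le _).2 fun x hx => ?_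
    have : x = p 0 0 * (p 0 0 * x) := by rw [← mul_assoc, mul_self hD (hpS 0 0).1, one_mul]
    rw [this]
    exact mul_mem hA (hpair _ (hpS 0 0) _ hx)
  by_contra hdC
  have habc : ∀ x ∈ [p 0 0, B₀, C₀], x ∈ perp D d := by simp [hpS, hB₀S, hC₀S]
  have hhex : ∀ l : F, l ≠ 0 → [p 1 l, p ω (l * frob hF ω), p (frob hF ω) (l * ω)].prod = [p 0 0, B₀, C₀].prod ∧
      [p 1 l, p ω (l * frob hF ω), p (frob hF ω) (l * ω)].Nodup ∧
      (∀ x ∈ [p 1 l, p ω (l * frob hF ω), p (frob hF ω) (l * ω)],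
        ∀ y ∈ [p 1 l, p ω (l * frob hF ω), p (frob hF ω) (l * ω)], Commute x y) ∧
      ∀ x ∈ [p 0 0, B₀, C₀], ∀ y ∈ [p 0 0, B₀, C₀], Commute x y := by
    intro l hl
    have hspan : ∀ x ∈ [p 0 0, B₀, C₀, p 1 l, p ω (l * frob hF ω), p (frob hF ω) (l * ω)],
        x ∈ perp D d ∧ ∃ a b c k : F, U.c x = k • vec a b c := by
      intro x hx
      simp only [List.mem_cons, List.not_mem_nil, or_false] at hx
      rcases hx with rfl | rfl | rfl | rfl | rfl | rfl
      · exact ⟨hpS _ _, _, _, _, _, hpc _ _⟩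
      · exact ⟨hB₀S, _, _, _, _, hBc⟩
      · exact ⟨hC₀S, _, _, _, _, hCc⟩
      all_goals exact ⟨hpS _ _, _, _, _, _, hpc _ _⟩
    have hcom : ∀ x ∈ [p 0 0, B₀, C₀, p 1 l, p ω (l * frob hF ω), p (frob hF ω) (l * ω)],
        ∀ y ∈ [p 0 0, B₀, C₀, p 1 l, p ω (l * frob hF ω), p (frob hF ω) (l * ω)], Commute x y := by
      intro x hx y hy
      obtain ⟨hxS, a, b, c, m, ex⟩ := hspan x hx
      obtain ⟨hyS, a', b', c', m', ey⟩ := hspan y hy
      exact (U.comm x hxS y hyS).2 (by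
        rw [ex, ey, map_smul, LinearMap.map_smulₛₗ, LinearMap.smul_apply, hperp, smul_zero, smul_zero])
    have hterm : ∀ (x : G) (v : Fin 6 → F) (m : F), m ≠ 0 → U.c x = m • v → ∀ w,
        hB hF 6 (U.c x) w • U.c x = hB hF 6 v w • v := fun x v m hm hx w => by
      rw [hx, LinearMap.map_smulₛₗ, LinearMap.smul_apply, smul_eq_mul, smul_smul, hK.sq]
      congr 1
      linear_combination hB hF 6 v w * hK.cube _ hm
    have hcen : ∀ y ∈ perp D d, Commute [p 0 0, B₀, C₀, p 1 l, p ω (l * frob hF ω), p (frob hF ω) (l * ω)].prod y := by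
      rw [U.central_iff hK hS hB' h5 (fun x hx => (hspan x hx).1) hcom]
      intro w
      have hv : ∀ b c, vec 1 b c = vec 1 0 0 + b • vec 0 1 0 + c • vec 0 0 1 := fun b c => by
        funext i; fin_cases i <;> simp [hvec]
      have h := Linear.hyperoval_act hK hS hB' (w := vec 1 0 0) (z := vec 0 1 0) (u := vec 0 0 1) hω hl w
      have e1 : vec 1 0 0 + vec 0 1 0 + l • vec 0 0 1 = vec 1 1 l := by rw [hv 1 l, one_smul]
      rw [e1, ← hv, ← hv] at h
      simp only [List.map_cons, List.map_nil, Linear.act_cons] at h ⊢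
      rw [hterm _ _ _ (hk 0 0) (hpc 0 0), hterm _ _ _ hkB hBc, hterm _ _ _ hkC hCc, hterm _ _ _ (hk _ _) (hpc 1 l),
        hterm _ _ _ (hk _ _) (hpc ω (l * frob hF ω)), hterm _ _ _ (hk _ _) (hpc (frob hF ω) (l * ω))]
      exact h
    have hzd : Commute [p 0 0, B₀, C₀, p 1 l, p ω (l * frob hF ω), p (frob hF ω) (l * ω)].prod d :=
      Commute.list_prod_left _ _ fun x hx => (hspan x hx).1.2.2.symm
    have hP : [p 0 0, B₀, C₀, p 1 l, p ω (l * frob hF ω), p (frob hF ω) (l * ω)].prod ∈ ⁅H, H⁆ := by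
      have := mul_mem (mul_mem (hpair _ (hpS 0 0) _ hB₀S) (hpair _ hC₀S _ (hpS 1 l)))
        (hpair _ (hpS ω (l * frob hF ω)) _ (hpS (frob hF ω) (l * ω)))
      simpa [mul_assoc] using this
    rcases eq_or_eq_of_centralizes hFD hU hd hprim hZ hzd hcen with h1 | h1
    swap
    · exact absurd (h1 ▸ hP) hdC
    refine ⟨?_, ?_, fun x hx y hy => hcom x ?_ y ?_, fun x hx y hy => hcom x ?_ y ?_⟩
    · have hA : Commute (p 0 0) B₀ := hAB
      have hAC : Commute (p 0 0) C₀ := hcom _ (by simp) _ (by simp)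
      have hBCc : Commute B₀ C₀ := hcom _ (by simp) _ (by simp)
      have : [p 0 0, B₀, C₀].prod * [p 1 l, p ω (l * frob hF ω), p (frob hF ω) (l * ω)].prod = 1 := by
        rw [← List.prod_append]; exact h1
      rw [eq_inv_of_mul_eq_one_right this]
      simp only [List.prod_cons, List.prod_nil, mul_one, mul_inv_rev, inv_eq hD (hpS 0 0).1, inv_eq hD hB₀S.1,
        inv_eq hD hC₀S.1]
      rw [← hBCc.eq, ← (hA.mul_right hAC).eq]
    · simp only [List.nodup_cons, List.mem_cons, List.not_mem_nil, or_false, not_or, List.nodup_nil, and_true,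
        not_false_eq_true]
      exact ⟨⟨fun h => hω1 (hpinj _ _ _ _ h).1.symm, fun h => hsω1 (hpinj _ _ _ _ h).1.symm⟩,
        fun h => hω (hpinj _ _ _ _ h).1.symm⟩
    all_goals simp only [List.mem_cons, List.not_mem_nil, or_false] at hx hy ⊢; tauto
  obtain ⟨hq1, hn1, hc1, hcabc⟩ := hhex 1 one_ne_zero
  obtain ⟨hq2, hn2, hc2, -⟩ := hhex ω hω0
  have hnd0 : [p 0 0, B₀, C₀].Nodup := by
    simp [hpB, hpC, hBC]
  obtain ⟨e', f', g', -, -, hall⟩ := three_exactly_two hD hprim hZ hsep hU hnd0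
    (fun x hx => (habc x hx).1) hcabc
  have hnot : ∀ l, p 1 l ∉ [p 0 0, B₀, C₀] := fun l h => by
    simp only [List.mem_cons, List.not_mem_nil, or_false, hpB, hpC] at h
    exact one_ne_zero (hpinj _ _ _ _ h).1
  have hT : ∀ l, ([p 1 l, p ω (l * frob hF ω), p (frob hF ω) (l * ω)].prod = [p 0 0, B₀, C₀].prod) →
      [p 1 l, p ω (l * frob hF ω), p (frob hF ω) (l * ω)].Nodup →
      (∀ x ∈ [p 1 l, p ω (l * frob hF ω), p (frob hF ω) (l * ω)],
        ∀ y ∈ [p 1 l, p ω (l * frob hF ω), p (frob hF ω) (l * ω)], Commute x y) →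
      ∀ x, x ∈ [p 1 l, p ω (l * frob hF ω), p (frob hF ω) (l * ω)] ↔ x ∈ [e', f', g'] := by
    intro l hq hn hc
    refine (hall _ hn rfl (by simp [(hpS _ _).1]) hc hq).resolve_left fun h => hnot l ((h _).1 (by simp))
  have hmem1 := (hT ω hq2 hn2 hc2 _).2 ((hT 1 hq1 hn1 hc1 (p 1 1)).1 (by simp))
  simp only [List.mem_cons, List.not_mem_nil, or_false] at hmem1
  rcases hmem1 with h | h | h
  · exact hω1 (hpinj _ _ _ _ h).2.symm
  · exact hω1 (hpinj _ _ _ _ h).1.symm
  · exact hsω1 (hpinj _ _ _ _ h).1.symm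

end Cfsg.Lib.Fischer.Relations
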