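import Cfsg.Agent.S1631

/-!
# Sums of transvection terms with isotropic centres over the field with four elements

A product of transvections with pairwise perpendicular centres moves `x` by the sum `act ws x`.
-/

set_option autoImplicit false
set_option linter.unusedSectionVars false

namespace Cfsg.Lib.Fischer.Relations.Linear

open Module Cfsg.Lib.Linear.Herm Cfsg.Agent.S1631

variable {F V : Type*} [Field F] [Fintype F] [AddCommGroup V] [Module F V] [FiniteDimensional F V]
  {σ : F →+* F} {B : V →ₛₗ[σ] V →ₗ[F] F}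

/-- The displacement of a product of transvections with perpendicular centres. -/
def act (B : V →ₛₗ[σ] V →ₗ[F] F) (ws : List V) : V →ₗ[F] V :=
  (ws.map fun w => (B w).smulRight w).sum

theorem act_apply (ws : List V) (x : V) : act B ws x = (ws.map fun w => B w x • w).sum := by
  induction ws with
  | nil => rfl
  | cons w ws ih => simp [act] at ih ⊢; rw [ih]

theorem act_cons (w : V) (ws : List V) (x : V) : act B (w :: ws) x = B w x • w + act B ws x := by
  simp [act]

variable (hK : FourField F σ) (hS : B.IsSymm) (hB : B.Nondegenerate)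
include hK hS hB

theorem add_self (v : V) : v + v = 0 := by
  rw [← two_smul F, hK.two, zero_smul]

theorem neg_self (v : V) : -v = v := neg_eq_of_add_eq_zero_left (add_self hK hS hB v)

theorem eq_of_add_eq_zero {u v : V} (h : u + v = 0) : u = v :=
  (eq_neg_of_add_eq_zero_left h).trans (neg_self hK hS hB v)

theorem exists_omega : ∃ w : F, σ w ≠ w := by
  by_contra h
  push Not at h
  exact hK.ne_id (RingHom.ext h)

theorem exists_one {w : V} (hw0 : w ≠ 0) : ∃ u, B w u = 1 := by
  obtain ⟨u, hu⟩ : ∃ u, B w u ≠ 0 := by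
    by_contra h
    push Not at h
    exact hw0 (hB.1 w h)
  exact ⟨(B w u)⁻¹ • u, by rw [map_smul, smul_eq_mul, inv_mul_cancel₀ hu]⟩

/-- The kernel of `B d` is spanned by its isotropic vectors. -/
theorem span_iso (h5 : 5 ≤ finrank F V) (d : V) {W : Type*} [AddCommGroup W] [Module F W] (f : V →ₗ[F] W)
    (hf : ∀ r, B r r = 0 → r ≠ 0 → B d r = 0 → f r = 0) {u : V} (hu : B d u = 0) : f u = 0 := by
  have hf' : ∀ r, B r r = 0 → B d r = 0 → f r = 0 := fun r h1 h2 => by
    rcases eq_or_ne r 0 with rfl | h0
    · exact map_zero f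
    · exact hf r h1 h0 h2
  rcases fixed_cases hK (hS.eq u u) with h | h
  · exact hf' u h hu
  obtain ⟨z, hdz, huz, hzz⟩ : ∃ z, B d z = 0 ∧ B u z = 0 ∧ B z z = 1 := by
    by_contra hcon
    push Not at hcon
    have h0 : ∀ z, B d z = 0 → B u z = 0 → B z z = 0 := fun z h1 h2 =>
      (fixed_cases hK (hS.eq z z)).resolve_right (hcon z h1 h2)
    obtain ⟨ω, hω⟩ := exists_omega hK hS hB
    have hzero : ∀ a b, B d a = 0 → B u a = 0 → B d b = 0 → B u b = 0 → B a b = 0 := by
      intro a b ha ha' hb hb'
      have key : ∀ c : F, σ c * B b a + c * B a b = 0 := fun c => by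
        have h' := h0 (a + c • b) (by simp [ha, hb]) (by simp [ha', hb'])
        simp only [map_add, LinearMap.add_apply, LinearMap.map_smulₛₗ, LinearMap.smul_apply, map_smul,
          smul_eq_mul, RingHom.id_apply, h0 a ha ha', h0 b hb hb', mul_zero, add_zero, zero_add] at h'
        linear_combination h'
      have h1 := key 1
      rw [map_one, one_mul, one_mul] at h1
      have h3 : (σ ω - ω) * B a b = 0 := by linear_combination (σ ω) * h1 - key ω
      exact (mul_eq_zero.mp h3).resolve_left (sub_ne_zero.mpr hω)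
    have hle : LinearMap.ker ((B d).prod (B u)) ≤ Submodule.span F {d, u} := by
      intro a ha
      by_contra hna
      obtain ⟨v, hv, hav⟩ := exists_perp_ne_zero hK.invol hS hB _ hna
      simp only [LinearMap.ker_prod, Submodule.mem_inf, LinearMap.mem_ker] at ha
      exact hav (hzero a v ha.1 ha.2 (hv d (Submodule.subset_span (by simp)))
        (hv u (Submodule.subset_span (by simp))))
    have h1 := LinearMap.finrank_range_add_finrank_ker ((B d).prod (B u))
    have h2 := Submodule.finrank_le (LinearMap.range ((B d).prod (B u)))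
    rw [Module.finrank_prod, Module.finrank_self] at h2
    have h3 := Submodule.finrank_mono hle
    have h4 : finrank F ↥(Submodule.span F ({d, u} : Set V)) ≤ 2 := by
      classical
      have := finrank_span_finset_le_card (R := F) ({d, u} : Finset V)
      rw [Set.finrank, Finset.coe_insert, Finset.coe_singleton] at this
      exact this.trans Finset.card_le_two
    omega
  have hzu : B z u = 0 := hS.isRefl _ _ huz
  obtain ⟨ω, hω⟩ := exists_omega hK hS hB
  have hω0 : ω ≠ 0 := fun e => hω (by rw [e, map_zero])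
  have hω1 : ω ≠ 1 := fun e => hω (by rw [e, map_one])
  have hN : σ ω * ω = 1 := by rw [hK.sq]; exact hK.cube ω hω0
  have h1 : f (u + z) = 0 := by
    refine hf' _ ?_ (by simp [hu, hdz])
    simp only [map_add, LinearMap.add_apply, h, huz, hzu, hzz, add_zero, zero_add]
    linear_combination hK.two
  have h2 : f (u + ω • z) = 0 := by
    refine hf' _ ?_ (by simp [hu, hdz])
    simp only [map_add, LinearMap.add_apply, LinearMap.map_smulₛₗ, LinearMap.smul_apply, map_smul,
      smul_eq_mul, RingHom.id_apply, h, huz, hzu, hzz, mul_zero, mul_one, add_zero, zero_add]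
    linear_combination hN + hK.two
  rw [map_add] at h1
  rw [map_add, map_smul] at h2
  have h3 : (1 - ω) • f z = 0 := by
    rw [sub_smul, one_smul]
    calc f z - ω • f z = (f u + f z) - (f u + ω • f z) := by abel
      _ = 0 := by rw [h1, h2, sub_zero]
  rw [smul_eq_zero, sub_eq_zero] at h3
  rw [h3.resolve_left (fun e => hω1 e.symm), add_zero] at h1
  exact h1

/-- An isotropic point is determined by the isotropic vectors perpendicular to it. -/
theorem mem_span_of_perp (h5 : 5 ≤ finrank F V) {p q : V}
    (h : ∀ r, B r r = 0 → r ≠ 0 → B p r = 0 → B q r = 0) : ∃ c : F, q = c • p := by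
  by_contra hc
  push Not at hc
  have hq : q ∉ Submodule.span F {p} := fun hq => by
    obtain ⟨c, hc'⟩ := Submodule.mem_span_singleton.1 hq
    exact hc c hc'.symm
  obtain ⟨u, hu, hne⟩ := exists_perp_ne_zero hK.invol hS hB _ hq
  exact hne (span_iso hK hS hB h5 p (B q) h (hu p (Submodule.mem_span_singleton_self p)))

/-- Some isotropic vector is not perpendicular to a given non-zero vector. -/
theorem exists_iso_ne (h5 : 5 ≤ finrank F V) {p : V} (hp : p ≠ 0) :
    ∃ r, B r r = 0 ∧ r ≠ 0 ∧ B p r ≠ 0 := by
  by_contra h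
  push Not at h
  obtain ⟨u, hu⟩ := exists_one hK hS hB hp
  have := span_iso hK hS hB h5 (0 : V) (B p) (fun r h1 h2 _ => h r h1 h2) (u := u) (by simp)
  rw [hu] at this
  exact one_ne_zero this

theorem act_symm (ws : List V) (x y : V) : B y (act B ws x) = σ (B x (act B ws y)) := by
  induction ws with
  | nil => simp [act]
  | cons w ws ih =>
    rw [act_cons, act_cons, map_add, map_add, map_add, map_smul, map_smul, smul_eq_mul, smul_eq_mul, ih,
      map_mul, hS.eq w y, hS.eq x w]
    ring

theorem act_eq_zero (h5 : 5 ≤ finrank F V) (ws : List V)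
    (h : ∀ r, B r r = 0 → r ≠ 0 → act B ws r = 0) (x : V) : act B ws x = 0 :=
  span_iso hK hS hB h5 (0 : V) (act B ws) (fun r h1 h2 _ => h r h1 h2) (by simp)

/-- A displacement killing the isotropic vectors perpendicular to `d` is that of `d` or none. -/
theorem act_cases (h5 : 5 ≤ finrank F V) {d : V} (hd0 : d ≠ 0) (ws : List V)
    (h : ∀ r, B r r = 0 → r ≠ 0 → B d r = 0 → act B ws r = 0) :
    (∀ x, act B ws x = 0) ∨ ∀ x, act B ws x = B d x • d := by
  obtain ⟨u, hu⟩ := exists_one hK hS hB hd0
  have hx : ∀ x, act B ws x = B d x • act B ws u := fun x => by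
    have h1 := span_iso hK hS hB h5 d (act B ws) h (u := x - B d x • u) (by simp [hu])
    rwa [map_sub, map_smul, sub_eq_zero] at h1
  obtain ⟨β, hβ⟩ : ∃ β, β = B u (act B ws u) := ⟨_, rfl⟩
  have hβσ : σ β = β := by
    have := act_symm hK hS hB ws u u
    rw [hβ, ← this]
  have hud : B u d = 1 := by rw [← hS.eq d u, hu, map_one]
  have ha : act B ws u = β • d := by
    rw [← sub_eq_zero]
    refine hB.1 _ fun y => ?_
    refine hS.isRefl y _ ?_
    rw [map_sub, map_smul, act_symm hK hS hB ws u y, hx y, map_smul, smul_eq_mul, map_mul, hS.eq d y,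
      ← hβ, hβσ, smul_eq_mul, mul_comm β, sub_self]
  rcases fixed_cases hK hβσ with e | e
  · exact Or.inl fun x => by rw [hx, ha, e, zero_smul, smul_zero]
  · exact Or.inr fun x => by rw [hx, ha, e, one_smul]

/-- Five pairwise independent centres with zero displacement lie on the line of any two of them. -/
theorem five_unique {v₁ v₂ v₃ v₄ v₅ : V} (hind : v₂ ∉ Submodule.span F {v₁}) (h1 : v₁ ≠ 0)
    (h : ∀ x, act B [v₁, v₂, v₃, v₄, v₅] x = 0) : ∃ α β : F, v₃ = α • v₁ + β • v₂ := by
  by_contra hc
  push Not at hc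
  have h3 : v₃ ∉ Submodule.span F {v₁, v₂} := fun h3 => by
    obtain ⟨α, β, e⟩ := Submodule.mem_span_pair.1 h3
    exact hc α β e.symm
  have hli : LinearIndependent F ![v₁, v₂, v₃] := by
    rw [Fintype.linearIndependent_iff]
    intro g hg
    simp only [Fin.sum_univ_three, Matrix.cons_val_zero, Matrix.cons_val_one, Matrix.cons_val] at hg
    have g2 : g 2 = 0 := by
      by_contra hne
      refine h3 (Submodule.mem_span_pair.2 ⟨-((g 2)⁻¹ * g 0), -((g 2)⁻¹ * g 1), ?_⟩)
      have := congrArg (fun z => (g 2)⁻¹ • z) (eq_neg_of_add_eq_zero_right hg)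
      simp only [smul_smul, inv_mul_cancel₀ hne, one_smul, smul_neg, smul_add] at this
      rw [this]
      module
    rw [g2, zero_smul, add_zero] at hg
    have g1 : g 1 = 0 := by
      by_contra hne
      refine hind (Submodule.mem_span_singleton.2 ⟨-((g 1)⁻¹ * g 0), ?_⟩)
      have := congrArg (fun z => (g 1)⁻¹ • z) (eq_neg_of_add_eq_zero_right hg)
      simp only [smul_smul, inv_mul_cancel₀ hne, one_smul, smul_neg] at this
      rw [this]
      module
    rw [g1, zero_smul, add_zero, smul_eq_zero] at hg
    intro i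
    fin_cases i
    exacts [hg.resolve_right h1, g1, g2]
  have hmem : ∀ i, ![v₁, v₂, v₃] i ∈ Submodule.span F ({v₄, v₅} : Set V) := by
    intro i
    obtain ⟨f, hfi, hf⟩ : ∃ u, B (![v₁, v₂, v₃] i) u = 1 ∧ ∀ j, j ≠ i → B (![v₁, v₂, v₃] j) u = 0 := by
      have hni : ![v₁, v₂, v₃] i ∉ Submodule.span F (![v₁, v₂, v₃] '' {j | j ≠ i}) :=
        hli.notMem_span_image (by simp)
      obtain ⟨u, hu, hne⟩ := exists_perp_ne_zero hK.invol hS hB _ hni
      exact ⟨(B (![v₁, v₂, v₃] i) u)⁻¹ • u, by rw [map_smul, smul_eq_mul, inv_mul_cancel₀ hne],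
        fun j hj => by rw [map_smul, hu _ (Submodule.subset_span ⟨j, hj, rfl⟩), smul_zero]⟩
    have hsum := h f
    simp only [act_cons, show act B ([] : List V) f = 0 from rfl, add_zero] at hsum
    have hkey : ![v₁, v₂, v₃] i + (B v₄ f • v₄ + B v₅ f • v₅) = 0 := by
      fin_cases i
      · have a := hf 1 (by decide)
        have b := hf 2 (by decide)
        simp at hfi a b ⊢
        simpa [hfi, a, b] using hsum
      · have a := hf 0 (by decide)
        have b := hf 2 (by decide)
        simp at hfi a b ⊢
        simpa [hfi, a, b] using hsum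
      · have a := hf 0 (by decide)
        have b := hf 1 (by decide)
        simp at hfi a b ⊢
        simpa [hfi, a, b] using hsum
    rw [eq_neg_of_add_eq_zero_left hkey]
    exact neg_mem (Submodule.mem_span_pair.2 ⟨_, _, rfl⟩)
  have hle : Submodule.span F (Set.range ![v₁, v₂, v₃]) ≤ Submodule.span F ({v₄, v₅} : Set V) :=
    Submodule.span_le.2 (by rintro _ ⟨i, rfl⟩; exact hmem i)
  have h4 := Submodule.finrank_mono hle
  rw [finrank_span_eq_card hli, Fintype.card_fin] at h4
  have h6 : finrank F ↥(Submodule.span F ({v₄, v₅} : Set V)) ≤ 2 := by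
    classical
    have := finrank_span_finset_le_card (R := F) ({v₄, v₅} : Finset V)
    rw [Set.finrank, Finset.coe_insert, Finset.coe_singleton] at this
    exact this.trans Finset.card_le_two
  omega

/-- The five points of a totally isotropic line have zero displacement. -/
theorem line_act {w z : V} {ω : F} (hω : σ ω ≠ ω) (x : V) :
    act B [w, z, w + z, w + ω • z, w + σ ω • z] x = 0 := by
  have hω0 : ω ≠ 0 := fun e => hω (by rw [e, map_zero])
  have hω1 : ω ≠ 1 := fun e => hω (by rw [e, map_one])
  have hN : ω * ω * ω = 1 := hK.cube ω hω0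
  have h2 : ω * ω + ω + 1 = 0 := by
    have : (ω - 1) * (ω * ω + ω + 1) = 0 := by linear_combination hN
    exact (mul_eq_zero.1 this).resolve_left (sub_ne_zero.2 hω1)
  simp only [act_cons, show act B ([] : List V) x = 0 from rfl, add_zero, map_add, LinearMap.add_apply,
    LinearMap.map_smulₛₗ, LinearMap.smul_apply, smul_eq_mul, hK.invol, hK.sq ω, map_mul]
  match_scalars
  · linear_combination (2 * B w x) * hK.two + B z x * h2 + (B z x * ω) * hN
  · linear_combination B w x * h2 + (2 * B z x) * hK.two + (2 * B z x + B z x * (ω * ω * ω)) * hN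

end Cfsg.Lib.Fischer.Relations.Linear
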