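import Cfsg.Agent.Lib.Fischer.Relations.Basic
import Cfsg.Agent.Lib.Fischer.Relations.Linear
import Cfsg.Agent.Lib.Fischer.RadicalAbelian.SpecialUnitary
import Cfsg.Agent.Lib.Linear.UnitaryCenter

/-!
# A neighbourhood with quotient `PSU(6, 2)` consists of the transvections

If the group of a neighbourhood is `PSU(6, 2)` modulo its centre, the members of the neighbourhood
correspond to the isotropic points, and products of commuting members to sums of transvection terms.
-/

set_option autoImplicit false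
set_option linter.unusedSectionVars false

namespace Cfsg.Lib.Fischer.Relations

open Module Cfsg Cfsg.Lib.Fischer Cfsg.Lib.Linear.Herm Cfsg.Agent.S1631 Cfsg.Lib.Fischer.RadicalAbelian

/-- A set of members coordinatised by the isotropic points of a unitary space. -/
structure UData {G : Type*} [Group G] (S : Set G) {F V : Type*} [Field F] [AddCommGroup V] [Module F V]
    {σ : F →+* F} (B : V →ₛₗ[σ] V →ₗ[F] F) where
  c : G → V
  iso : ∀ s ∈ S, B (c s) (c s) = 0
  ne : ∀ s ∈ S, c s ≠ 0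
  comm : ∀ a ∈ S, ∀ b ∈ S, Commute a b ↔ B (c a) (c b) = 0
  every : ∀ w, B w w = 0 → w ≠ 0 → ∃ s ∈ S, ∃ k : F, k ≠ 0 ∧ c s = k • w
  inj : ∀ a ∈ S, ∀ b ∈ S, ∀ k : F, c b = k • c a → a = b
  rel : ∀ l : List G, (∀ a ∈ l, a ∈ S) → (∀ a ∈ l, ∀ b ∈ l, Commute a b) →
    ∀ y ∈ S, (Commute l.prod y ↔ Linear.act B (l.map c) (c y) = 0)

section Linear

variable {F V : Type*} [Field F] [Fintype F] [AddCommGroup V] [Module F V] [FiniteDimensional F V]
  {σ : F →+* F} {B : V →ₛₗ[σ] V →ₗ[F] F} (hK : FourField F σ) (hS : B.IsSymm) (hB : B.Nondegenerate)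
include hK hS hB

theorem tvu_eq {p q : V} (hp : B p p = 0) (hq : B q q = 0) (hq0 : q ≠ 0)
    (h : tvu hK hp = tvu hK hq) : ∃ k : F, k ≠ 0 ∧ q = k • p := by
  obtain ⟨x, hx⟩ := Linear.exists_one hK hS hB hq0
  have e := congrArg (fun t : V ≃ₗ[F] V => t x) h
  simp only [tvu_apply, hx, one_smul, add_right_inj] at e
  exact ⟨B p x, fun h0 => hq0 (by rw [← e, h0, zero_smul]), e.symm⟩

theorem tvu_commute_iff {p q : V} (hp : B p p = 0) (hq : B q q = 0) :
    Commute (tvu hK hp) (tvu hK hq) ↔ B p q = 0 := by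
  constructor
  · intro h
    by_contra hne
    have hqp : B q p ≠ 0 := fun h0 => hne (hS.isRefl _ _ h0)
    have h' := congrArg (fun t : V ≃ₗ[F] V => B q (t p)) h.eq
    simp only [LinearEquiv.mul_apply, tvu_apply, map_add, map_smul, hp, hq, zero_smul, add_zero, smul_eq_mul,
      mul_zero, zero_add, LinearMap.add_apply] at h'
    exact mul_ne_zero (mul_ne_zero hqp hne) hqp (by linear_combination h')
  · intro h0
    refine LinearEquiv.ext fun x => ?_
    simp only [LinearEquiv.mul_apply, tvu_apply, map_add, map_smul, h0, hS.isRefl _ _ h0, smul_zero,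
      zero_smul, add_zero]
    abel

end Linear

section Lifts

variable {F : Type*} [Field F] [Fintype F] (hF : Fintype.card F = 2 ^ 2)
include hF

theorem center_cube {z : ↥(Cfsg.SU 6 F 2)} (hz : z ∈ Subgroup.center ↥(Cfsg.SU 6 F 2)) : z ^ 3 = 1 := by
  have h := pow_card_eq_one' (x := (⟨z, hz⟩ : Subgroup.center ↥(Cfsg.SU 6 F 2)))
  rw [card_center_SU hF (by norm_num : 2 ≤ 6)] at h
  exact congrArg Subtype.val h

theorem central_pow {A B : ↥(Cfsg.SU 6 F 2)} (hA : A * A = 1) (hB : B * B = 1) (n : ℕ)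
    (h : (A * B) ^ n ∈ Subgroup.center ↥(Cfsg.SU 6 F 2)) : (A * B) ^ n = 1 := by
  have h3 := center_cube hF h
  have e1 : A * (A * B) ^ n * A⁻¹ = ((A * B) ^ n)⁻¹ := by
    rw [← conj_pow, ← inv_pow, mul_inv_rev, inv_eq_of_mul_eq_one_right hA, inv_eq_of_mul_eq_one_right hB,
      ← mul_assoc, hA, one_mul]
  rw [Subgroup.mem_center_iff.1 h A, mul_inv_cancel_right] at e1
  generalize (A * B) ^ n = z at h3 e1
  rw [pow_succ, pow_two] at h3
  have h2 : z * z = 1 := by
    nth_rw 2 [e1]
    exact mul_inv_cancel z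
  rwa [h2, one_mul] at h3

theorem lift_unique {A B : ↥(Cfsg.SU 6 F 2)} (hA : A * A = 1) (hB : B * B = 1)
    (h : (A : Cfsg.PSU 6 F 2) = (B : Cfsg.PSU 6 F 2)) : A = B := by
  have h1 := central_pow hF hA hB 1 (by
    rw [pow_one]
    have := QuotientGroup.eq.1 h
    rwa [inv_eq_of_mul_eq_one_right hA] at this)
  rw [pow_one] at h1
  rw [eq_inv_of_mul_eq_one_left h1, inv_eq_of_mul_eq_one_right hB]

theorem exists_lift (p : Cfsg.PSU 6 F 2) (hp : p * p = 1) :
    ∃ A : ↥(Cfsg.SU 6 F 2), (A : Cfsg.PSU 6 F 2) = p ∧ A * A = 1 := by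
  obtain ⟨A, rfl⟩ := QuotientGroup.mk_surjective p
  refine ⟨A ^ 3, ?_, ?_⟩
  · rw [QuotientGroup.mk_pow, pow_succ, pow_two, hp, one_mul]
  · rw [← pow_add, show 3 + 3 = 2 * 3 from rfl, pow_mul]
    exact center_cube hF (by rw [pow_two, ← QuotientGroup.eq_one_iff, QuotientGroup.mk_mul]; exact hp)

theorem lift_commute {A B : ↥(Cfsg.SU 6 F 2)} (hA : A * A = 1) (hB : B * B = 1)
    (h : Commute (A : Cfsg.PSU 6 F 2) (B : Cfsg.PSU 6 F 2)) : Commute A B := by
  have hA' : (A : Cfsg.PSU 6 F 2) * A = 1 := by rw [← QuotientGroup.mk_mul, hA, QuotientGroup.mk_one]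
  have hB' : (B : Cfsg.PSU 6 F 2) * B = 1 := by rw [← QuotientGroup.mk_mul, hB, QuotientGroup.mk_one]
  have h2 := central_pow hF hA hB 2 (by
    rw [← QuotientGroup.eq_one_iff, QuotientGroup.mk_pow, QuotientGroup.mk_mul, h.mul_pow, pow_two,
      pow_two, hA', hB', one_mul])
  rw [pow_two, ← eq_inv_iff_mul_eq_one, mul_inv_rev, inv_eq_of_mul_eq_one_right hA,
    inv_eq_of_mul_eq_one_right hB] at h2
  exact h2

end Lifts

variable {G : Type*} [Group G] [Finite G] {D : Set G}

set_option maxHeartbeats 800000 in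
/-- A neighbourhood whose group is `PSU(6, 2)` modulo its centre is coordinatised by its transvections. -/
theorem exists_udata_image (hD : Trans D)
    (hsep : ∀ a ∈ D, ∀ b ∈ D, (∀ e ∈ D, Commute a e ↔ Commute b e) → a = b) {d : G} (hd : d ∈ D)
    {F : Type*} [Field F] [Fintype F] (hF : Fintype.card F = 2 ^ 2)
    (e : ↥(Subgroup.closure (perp D d)) ⧸ Subgroup.center ↥(Subgroup.closure (perp D d)) ≃* Cfsg.PSU 6 F 2) :
    ∃ U : UData (perp D d) (hB hF 6), ∀ (s : G) (hs : s ∈ perp D d), ∃ A : ↥(Cfsg.SU 6 F 2),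
      (A : Cfsg.PSU 6 F 2) = e (QuotientGroup.mk ⟨s, Subgroup.subset_closure hs⟩) ∧
      ∀ x, model hF 6 A x = x + hB hF 6 (U.c s) x • U.c s := by
  classical
  have hK := fourField hF
  have hS := hB_isSymm hF 6
  have hND := hB_nondegenerate hF 6
  have h4 : 4 ≤ finrank F (Fin 6 → F) := by rw [finrank_fin_fun]; norm_num
  obtain ⟨H, hH⟩ : ∃ H, H = Subgroup.closure (perp D d) := ⟨_, rfl⟩
  let φ : ↥(Subgroup.closure (perp D d)) →* Cfsg.PSU 6 F 2 :=
    e.toMonoidHom.comp (QuotientGroup.mk' _)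
  have hφs : Function.Surjective φ := e.surjective.comp (QuotientGroup.mk'_surjective _)
  have hφ : ∀ h, φ h = 1 ↔ h ∈ Subgroup.center ↥(Subgroup.closure (perp D d)) := fun h =>
    (map_eq_one_iff e e.injective).trans (QuotientGroup.eq_one_iff h)
  let mem : ∀ {s : G}, s ∈ perp D d → ↥(Subgroup.closure (perp D d)) :=
    fun {s} hs => ⟨s, Subgroup.subset_closure hs⟩
  have hle : Subgroup.closure (perp D d) ≤ Subgroup.closure (insert d (perp D d)) :=
    Subgroup.closure_mono (Set.subset_insert _ _)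
  have hconj : ∀ (x : ↥(Subgroup.closure (perp D d))) {s : G}, s ∈ perp D d →
      (x : G) * s * (x : G)⁻¹ ∈ perp D d := fun x s hs => ((conj_mem_perp hD hd (hle x.2)).2 s hs).1
  have hsq : ∀ {s : G} (hs : s ∈ perp D d), φ (mem hs) * φ (mem hs) = 1 := fun {s} hs => by
    rw [← map_mul, show mem hs * mem hs = 1 from Subtype.ext (mul_self hD hs.1), map_one]
  have hne1 : ∀ {s : G} (hs : s ∈ perp D d), φ (mem hs) ≠ 1 := fun {s} hs h => by
    obtain ⟨y, hy, hn⟩ := exists_perp_noncommute hD hsep hd hs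
    exact hn (congrArg Subtype.val (Subgroup.mem_center_iff.1 ((hφ _).1 h) (mem hy))).symm
  have hred : ∀ {a b : G} (ha : a ∈ perp D d) (hb : b ∈ perp D d),
      Commute (φ (mem ha)) (φ (mem hb)) → Commute a b := by
    intro a b ha hb h
    by_contra hn
    have h3 : (φ (mem ha) * φ (mem hb)) ^ 3 = 1 := by
      rw [← map_mul, ← map_pow, show (mem ha * mem hb) ^ 3 = 1 from
        Subtype.ext (orderOf_mul hD a b ha.1 hb.1 hn), map_one]
    rw [pow_succ, h.mul_pow, pow_two, pow_two, hsq ha, hsq hb, one_mul, one_mul, ← map_mul, hφ] at h3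
    have h' := congrArg Subtype.val (Subgroup.mem_center_iff.1 h3 (mem ha))
    simp only [Subgroup.coe_mul, mem] at h'
    rw [← mul_assoc, mul_self hD ha.1, one_mul] at h'
    refine hn ?_
    show a * b = b * a
    nth_rw 1 [h']
    rw [← mul_assoc, ← mul_assoc, mul_self hD ha.1, one_mul]
  have hex : ∀ s : G, ∃ A : ↥(Cfsg.SU 6 F 2), A * A = 1 ∧
      ∀ hs : s ∈ perp D d, (A : Cfsg.PSU 6 F 2) = φ (mem hs) := by
    intro s
    by_cases hs : s ∈ perp D d
    · obtain ⟨A, hA, hA2⟩ := exists_lift hF _ (hsq hs)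
      exact ⟨A, hA2, fun _ => hA⟩
    · exact ⟨1, one_mul 1, fun h => absurd h hs⟩
  choose L hL2 hL using hex
  have hmk : ∀ (A : ↥(Cfsg.SU 6 F 2)) (x : ↥(Subgroup.closure (perp D d))) {s : G} (hs : s ∈ perp D d),
      (A : Cfsg.PSU 6 F 2) = φ x → L ((x : G) * s * (x : G)⁻¹) = A * L s * A⁻¹ := by
    intro A x s hs hA
    refine lift_unique hF (hL2 _) ?_ ?_
    · calc A * L s * A⁻¹ * (A * L s * A⁻¹) = A * (L s * L s) * A⁻¹ := by group
        _ = 1 := by rw [hL2, mul_one, mul_inv_cancel]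
    · rw [hL _ (hconj x hs), QuotientGroup.mk_mul, QuotientGroup.mk_mul, QuotientGroup.mk_inv, hA,
        hL s hs, ← map_inv, ← map_mul, ← map_mul]
      rfl
  -- every member is a transvection
  have hpt : ∀ s : G, ∃ w : Fin 6 → F, s ∈ perp D d →
      ∃ hw : hB hF 6 w w = 0, w ≠ 0 ∧ model hF 6 (L s) = tvu hK hw := by
    intro s
    by_cases hs : s ∈ perp D d
    swap
    · exact ⟨0, fun h => absurd h hs⟩
    obtain ⟨a, ha⟩ := Unitary.rank_one_of_involution hK hS hND (e := model hF 6 (L s)) (model_mem hF 6 _)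
      (by rw [← map_mul, hL2, map_one]) (fun g hg hgd => by
        obtain ⟨A, rfl⟩ := model_surjective hF 6 hg hgd
        obtain ⟨x, hx⟩ := hφs (A : Cfsg.PSU 6 F 2)
        rw [← map_inv, ← map_mul, ← map_mul, ← map_mul, ← hmk A x hs hx.symm]
        have hcent : ∀ k : ℕ, (s * ((x : G) * s * (x : G)⁻¹)) ^ k = 1 →
            (L s * L ((x : G) * s * (x : G)⁻¹)) ^ k ∈ Subgroup.center ↥(Cfsg.SU 6 F 2) := by
          intro k hk
          rw [← QuotientGroup.eq_one_iff, QuotientGroup.mk_pow, QuotientGroup.mk_mul, hL s hs,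
            hL _ (hconj x hs), ← map_mul, ← map_pow]
          rw [show (mem hs * mem (hconj x hs)) ^ k = 1 from Subtype.ext hk, map_one]
        rcases hD.set.2 s hs.1 _ (hconj x hs).1 with h | h
        · exact Or.inl (by rw [← map_pow, central_pow hF (hL2 _) (hL2 _) 2 (hcent 2 h), map_one])
        · exact Or.inr (by rw [← map_pow, central_pow hF (hL2 _) (hL2 _) 3 (hcent 3 h), map_one]))
    have hne : model hF 6 (L s) ≠ 1 := fun h => hne1 hs (by
      rw [← hL s hs, model_injective hF 6 (h.trans (map_one (model hF 6)).symm), QuotientGroup.mk_one])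
    choose f hf using ha
    have ha0 : a ≠ 0 := by
      intro h0
      refine hne (LinearEquiv.ext fun x => ?_)
      have := hf x
      rw [h0, smul_zero] at this
      exact Linear.eq_of_add_eq_zero hK hS hND this
    have hfx : ∀ x, model hF 6 (L s) x = x + f x • a := fun x => by
      rw [← hf x, add_comm (model hF 6 (L s) x), ← add_assoc, Linear.add_self hK hS hND, zero_add]
    let f' : (Fin 6 → F) →ₗ[F] F :=
      { toFun := f
        map_add' := fun x y => smul_left_injective F ha0 (by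
          show f (x + y) • a = (f x + f y) • a
          rw [add_smul, ← hf, ← hf, ← hf, map_add]; abel)
        map_smul' := fun c x => smul_left_injective F ha0 (by
          show f (c • x) • a = (c • f x) • a
          rw [smul_assoc, ← hf, ← hf, map_smul, smul_add]) }
    obtain ⟨hw, he⟩ := rank_one hK hS hND (model_mem hF 6 _) (model_det hF 6 _) ha0 f' hfx hne
    exact ⟨a, fun _ => ⟨hw, ha0, he⟩⟩
  choose c hc using hpt
  have hcomm : ∀ a ∈ perp D d, ∀ b ∈ perp D d, Commute a b ↔ hB hF 6 (c a) (c b) = 0 := by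
    intro a ha b hb
    obtain ⟨h1, -, ea⟩ := hc a ha
    obtain ⟨h2, -, eb⟩ := hc b hb
    rw [← tvu_commute_iff hK hS hND h1 h2, ← ea, ← eb]
    refine ⟨fun h => (lift_commute hF (hL2 a) (hL2 b) ?_).map _, fun h => hred ha hb ?_⟩
    · rw [hL a ha, hL b hb]
      exact Commute.map (show Commute (mem ha) (mem hb) from Subtype.ext h.eq) φ
    · rw [← hL a ha, ← hL b hb]
      exact (Commute.of_map (model_injective hF 6) h).map (QuotientGroup.mk' _)
  have hinj : ∀ a ∈ perp D d, ∀ b ∈ perp D d, ∀ k : F, c b = k • c a → a = b := by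
    intro a ha b hb k hk
    obtain ⟨h1, -, ea⟩ := hc a ha
    obtain ⟨h2, h20, eb⟩ := hc b hb
    have hk0 : k ≠ 0 := fun h0 => h20 (by rw [hk, h0, zero_smul])
    have hk2 : hB hF 6 (k • c a) (k • c a) = 0 := hk ▸ h2
    have hAB : L a = L b := model_injective hF 6 (by
      rw [ea, eb, tvu_congr hK h2 hk2 hk, tvu_smul hK h1 hk0])
    have hφab : φ (mem ha) = φ (mem hb) := by rw [← hL a ha, ← hL b hb, hAB]
    obtain ⟨y, hy, hn⟩ := exists_perp_noncommute hD hsep hd ha
    have hnb : ¬ Commute b y := fun h => hn (hred ha hy (by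
      rw [hφab]; exact Commute.map (show Commute (mem hb) (mem hy) from Subtype.ext h.eq) φ))
    have hz : (mem ha)⁻¹ * mem hb ∈ Subgroup.center _ := (hφ _).1 (by
      rw [map_mul, map_inv, hφab, inv_mul_cancel])
    have h' : y * (a * b) = a * b * y := by
      have := congrArg Subtype.val (Subgroup.mem_center_iff.1 hz (mem hy))
      simpa [mem, inv_eq hD ha.1] using this
    refine eq_of_cj_eq hD ha.1 hb.1 hy.1 (fun h => hn h.symm) (fun h => hnb h.symm) ?_
    calc cj a y = a * (y * (a * b)) * b := by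
          simp only [cj_def, mul_assoc]; rw [mul_self hD hb.1, mul_one]
      _ = cj b y := by rw [h', cj_def, ← mul_assoc, ← mul_assoc, mul_self hD ha.1, one_mul]
  obtain ⟨w₀, hw₀⟩ : ∃ w : Fin 6 → F, w ≠ 0 ∧ hB hF 6 w w = 0 := by
    have := (odd_card_isotropic hF 6 (by norm_num)).pos
    obtain ⟨⟨v, hv⟩⟩ := (Nat.card_pos_iff.1 this).1
    exact ⟨v, hv⟩
  obtain ⟨s₀, hs₀⟩ : ∃ s, s ∈ perp D d := by
    by_contra h
    push Not at h
    have hd1 : LinearEquiv.det (tvu hK hw₀.2) = 1 := Units.ext (by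
      rw [tvu, det_qrefl, hw₀.2, mul_zero, add_zero]; rfl)
    obtain ⟨A, hA⟩ := model_surjective hF 6 (tvu_mem hK hS hw₀.2) hd1
    obtain ⟨x, hx⟩ := hφs (A : Cfsg.PSU 6 F 2)
    have hx1 : x = 1 := by
      refine Subtype.ext ?_
      have : Subgroup.closure (perp D d) = ⊥ := Subgroup.closure_eq_bot_iff.2 fun s hs => absurd hs (h s)
      exact Subgroup.mem_bot.1 (this ▸ x.2)
    rw [hx1, map_one] at hx
    have hz : A ∈ Subgroup.center ↥(Cfsg.SU 6 F 2) := (QuotientGroup.eq_one_iff A).1 hx.symm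
    have h3 := congrArg (model hF 6) (center_cube hF hz)
    rw [pow_succ, pow_two, map_mul, map_mul, hA, tvu_sq, one_mul, map_one] at h3
    exact tvu_ne_one hK hS hND hw₀.2 hw₀.1 h3
  refine ⟨⟨c, fun s hs => (hc s hs).1, fun s hs => (hc s hs).2.1, hcomm, fun w hw hw0 => ?_, hinj,
    fun l hl hcl y hy => ?_⟩, fun s hs => ⟨L s, hL s hs, fun x => ?_⟩⟩
  · obtain ⟨h1, h10, e1⟩ := hc s₀ hs₀
    obtain ⟨g, hg, hgd, hgw⟩ := special_trans hK hS hND h4 h1 hw h10 hw0
    obtain ⟨A, hA⟩ := model_surjective hF 6 hg hgd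
    obtain ⟨x, hx⟩ := hφs (A : Cfsg.PSU 6 F 2)
    refine ⟨_, hconj x hs₀, ?_⟩
    obtain ⟨h2, h20, e2⟩ := hc _ (hconj x hs₀)
    refine tvu_eq hK hS hND hw h2 h20 ?_
    rw [← e2, hmk A x hs₀ hx.symm, map_mul, map_mul, map_inv, hA, e1, tvu_conj hK hg]
    exact (tvu_congr hK _ hw hgw).symm
  · obtain ⟨hw, hP⟩ : ∃ hw : l.prod ∈ Subgroup.closure (perp D d),
        ((l.map L).prod : Cfsg.PSU 6 F 2) = φ ⟨l.prod, hw⟩ := by
      clear hcl
      induction l with
      | nil => exact ⟨one_mem _, by simp only [List.map_nil, List.prod_nil, QuotientGroup.mk_one]; exact (map_one φ).symm⟩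
      | cons a t ih =>
        obtain ⟨hw, hP⟩ := ih fun b hb => hl b (by simp [hb])
        have ha := hl a (by simp)
        refine ⟨by rw [List.prod_cons]; exact mul_mem (Subgroup.subset_closure ha) hw, ?_⟩
        rw [List.map_cons, List.prod_cons, QuotientGroup.mk_mul, hP, hL a ha, ← map_mul]
        congr 1
    have hact : ∀ x, model hF 6 (l.map L).prod x = x + Linear.act (hB hF 6) (l.map c) x := by
      clear hP hw
      induction l with
      | nil => intro x; simp [Linear.act]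
      | cons a t ih =>
        intro x
        have ha := hl a (by simp)
        obtain ⟨h1, -, ea⟩ := hc a ha
        have h0 : hB hF 6 (c a) (Linear.act (hB hF 6) (t.map c) x) = 0 := by
          rw [Linear.act_apply, map_list_sum, List.sum_eq_zero]
          intro z hz
          simp only [List.map_map, List.mem_map] at hz
          obtain ⟨b, hb, rfl⟩ := hz
          show hB hF 6 (c a) (hB hF 6 (c b) x • c b) = 0
          rw [map_smul, (hcomm a ha b (hl b (by simp [hb]))).1 (hcl a (by simp) b (by simp [hb])), smul_zero]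
        rw [List.map_cons, List.prod_cons, map_mul, LinearEquiv.mul_apply,
          ih (fun b hb => hl b (by simp [hb])) (fun u hu v hv => hcl u (by simp [hu]) v (by simp [hv])),
          ea, tvu_apply, map_add, h0, add_zero, List.map_cons, Linear.act_cons]
        abel
    obtain ⟨h1, h10, e1⟩ := hc y hy
    obtain ⟨h2, h20, e2⟩ := hc _ (hconj ⟨l.prod, hw⟩ hy)
    have hP0 : hB hF 6 (model hF 6 (l.map L).prod (c y)) (model hF 6 (l.map L).prod (c y)) = 0 := by
      rw [model_mem hF 6, h1]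
    have e3 : tvu hK h2 = tvu hK hP0 := by
      rw [← e2, hmk _ ⟨l.prod, hw⟩ hy hP, map_mul, map_mul, map_inv, e1, tvu_conj hK (model_mem hF 6 _)]
    constructor
    · intro h
      have hyy : l.prod * y * (l.prod)⁻¹ = y := by rw [h.eq, mul_inv_cancel_right]
      have e4 : tvu hK h1 = tvu hK hP0 := by
        rw [← e3, ← e1, ← e2]
        exact congrArg (fun z => model hF 6 (L z)) hyy.symm
      obtain ⟨k, -, hk⟩ := tvu_eq hK hS hND h1 hP0 (fun h0 => h10 (by
        simpa using congrArg (model hF 6 (l.map L).prod).symm h0)) e4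
      rw [hact] at hk
      have hsq2 : Linear.act (hB hF 6) (l.map c) (Linear.act (hB hF 6) (l.map c) (c y)) = 0 := by
        rw [Linear.act_apply, List.sum_eq_zero]
        intro z hz
        simp only [List.map_map, List.mem_map] at hz
        obtain ⟨a, ha, rfl⟩ := hz
        show hB hF 6 (c a) _ • c a = 0
        rw [Linear.act_apply, map_list_sum, List.sum_eq_zero, zero_smul]
        intro z hz
        simp only [List.map_map, List.mem_map] at hz
        obtain ⟨b, hb, rfl⟩ := hz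
        show hB hF 6 (c a) (hB hF 6 (c b) (c y) • c b) = 0
        rw [map_smul, (hcomm a (hl a ha) b (hl b hb)).1 (hcl a ha b hb), smul_zero]
      have hk' : Linear.act (hB hF 6) (l.map c) (c y) = (k - 1) • c y := by
        rw [sub_smul, one_smul, ← hk, add_sub_cancel_left]
      rw [hk', map_smul, hk', smul_smul, smul_eq_zero] at hsq2
      rw [hk', (mul_self_eq_zero.1 (hsq2.resolve_right h10)), zero_smul]
    · intro h
      have e4 : tvu hK h1 = tvu hK h2 := by
        rw [e3]
        exact (tvu_congr hK _ h1 (by rw [hact, h, add_zero])).symm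
      obtain ⟨k, -, hk⟩ := tvu_eq hK hS hND h1 h2 h20 e4
      have h5 : y = l.prod * y * (l.prod)⁻¹ := hinj y hy _ (hconj ⟨l.prod, hw⟩ hy) k hk
      exact mul_inv_eq_iff_eq_mul.1 h5.symm
  · obtain ⟨hw, -, ew⟩ := hc s hs
    rw [ew, tvu_apply]

/-- A neighbourhood whose group is `PSU(6, 2)` modulo its centre is coordinatised. -/
theorem exists_udata (hD : Trans D)
    (hsep : ∀ a ∈ D, ∀ b ∈ D, (∀ e ∈ D, Commute a e ↔ Commute b e) → a = b) {d : G} (hd : d ∈ D)
    {F : Type*} [Field F] [Fintype F] (hF : Fintype.card F = 2 ^ 2)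
    (e : ↥(Subgroup.closure (perp D d)) ⧸ Subgroup.center ↥(Subgroup.closure (perp D d)) ≃* Cfsg.PSU 6 F 2) :
    Nonempty (UData (perp D d) (hB hF 6)) :=
  ⟨(exists_udata_image hD hsep hd hF e).choose⟩

end Cfsg.Lib.Fischer.Relations
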