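import Cfsg.Agent.Lib.Fischer.Relations.Levels

/-!
# Products of two or three commuting members in a class of type M(22)

A pair is determined by its product; three members share their product with exactly one other triple,
namely the rest of the hexad that they span.
-/

set_option autoImplicit false
set_option linter.unusedSectionVars false

namespace Cfsg.Lib.Fischer.Relations

open Module Cfsg Cfsg.Lib.Fischer Cfsg.Lib.Linear.Herm Cfsg.Agent.S1631 Cfsg.Lib.Fischer.RadicalAbelian

variable {G : Type*} [Group G] [Finite G] {D : Set G}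
  {F : Type} [Field F] [Fintype F] {hF : Fintype.card F = 2 ^ 2}

theorem three_exactly_two (hD : Trans D) (hprim : Cfsg.IsPrimitiveUnderConj D) (hZ : Subgroup.center G = ⊥)
    (hsep : ∀ a ∈ D, ∀ b ∈ D, (∀ e ∈ D, Commute a e ↔ Commute b e) → a = b)
    (hU : ∀ d ∈ D, Nonempty (UData (perp D d) (hB hF 6))) {a b c : G}
    (hnd : [a, b, c].Nodup) (hl : ∀ x ∈ [a, b, c], x ∈ D)
    (hc : ∀ x ∈ [a, b, c], ∀ y ∈ [a, b, c], Commute x y) :
    ∃ e f g : G, ([e, f, g].Nodup ∧ (∀ x ∈ [e, f, g], x ∈ D) ∧
        (∀ x ∈ [e, f, g], ∀ y ∈ [e, f, g], Commute x y) ∧ [e, f, g].prod = [a, b, c].prod) ∧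
      e ∉ [a, b, c] ∧
      ∀ l : List G, l.Nodup → l.length = 3 → (∀ x ∈ l, x ∈ D) → (∀ x ∈ l, ∀ y ∈ l, Commute x y) →
        l.prod = [a, b, c].prod → (∀ x, x ∈ l ↔ x ∈ [a, b, c]) ∨ ∀ x, x ∈ l ↔ x ∈ [e, f, g] := by
  classical
  have hK := fourField hF
  have hS := hB_isSymm hF 6
  have hB := hB_nondegenerate hF 6
  have h5 : 5 ≤ finrank F (Fin 6 → F) := by rw [finrank_fin_fun]; norm_num
  have ha : a ∈ D := hl a (by simp)
  have hb : b ∈ D := hl b (by simp)
  have hcD : c ∈ D := hl c (by simp)
  obtain ⟨⟨hab, hac⟩, hbc⟩ : (a ≠ b ∧ a ≠ c) ∧ b ≠ c := by simpa using hnd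
  have cab : Commute a b := hc a (by simp) b (by simp)
  have cac : Commute a c := hc a (by simp) c (by simp)
  have cbc : Commute b c := hc b (by simp) c (by simp)
  obtain ⟨U⟩ := hU a ha
  have hbp : b ∈ perp D a := ⟨hb, hab.symm, cab⟩
  have hcp : c ∈ perp D a := ⟨hcD, hac.symm, cac⟩
  obtain ⟨e, f, g, he, hf, hg, hnd5, hc5, hp5, hline⟩ := U.exists_five hK hS hB h5 hbp hcp hbc cbc
  have hin5 : ∀ x ∈ [b, c, e, f, g], x ∈ perp D a := by simp [hbp, hcp, he, hf, hg]
  have hprod : [b, c, e, f, g].prod = a :=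
    line_prod hD hK hS hB h5 hprim hZ hsep ha U (b := b) (t := [c, e, f, g]) rfl hnd5 hin5 hc5 hp5
  have halg : ∀ P : G, b * (c * P) = a → P = a * (b * c) := fun P h =>
    calc P = c * (b * (b * (c * P))) := by
          rw [← mul_assoc b b, mul_self hD hb, one_mul, ← mul_assoc, mul_self hD hcD, one_mul]
      _ = a * (b * c) := by rw [h, ← mul_assoc, ← cbc.eq, (cab.mul_right cac).eq]
  have h3 : [e, f, g].prod = [a, b, c].prod := by
    have := halg [e, f, g].prod (by simpa using hprod)
    simpa using this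
  have hsub : ∀ x ∈ [e, f, g], x ∈ [b, c, e, f, g] := fun x hx => by
    simp only [List.mem_cons, List.not_mem_nil, or_false] at hx ⊢
    exact Or.inr (Or.inr hx)
  refine ⟨e, f, g, ⟨?_, fun x hx => (hin5 x (hsub x hx)).1, fun x hx y hy => hc5 x (hsub x hx) y (hsub y hy), h3⟩,
    ?_, ?_⟩
  · rw [List.nodup_cons, List.nodup_cons] at hnd5
    exact hnd5.2.2
  · simp only [List.mem_cons, List.not_mem_nil, or_false, not_or]
    refine ⟨he.2.1, ?_, ?_⟩
    · exact fun h => by simp [h] at hnd5
    · exact fun h => by simp [h] at hnd5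
  intro l hnd' hlen hl' hc' heq
  have hlen0 : [a, b, c].length ≤ 3 := le_rfl
  have hcross := cross_commute hD hnd hl hc hl' hc' hlen0 heq.symm
  by_cases hcom : ∃ x ∈ l, x ∈ [a, b, c]
  · obtain ⟨x, hx, hx0⟩ := hcom
    refine Or.inl ?_
    have p1 := List.perm_cons_erase hx
    have p0 := List.perm_cons_erase hx0
    have e1 : x * (l.erase x).prod = x * ([a, b, c].erase x).prod := by
      rw [← List.prod_cons, ← List.prod_cons, ← prod_perm p1 hc', ← prod_perm p0 hc, heq]
    have hpair := mem_iff_of_prod_eq hD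
      (noRel_five hD hK hS hB h5 ha U ⟨a, ha, b, hb, hab⟩) (hnd'.erase x) (hnd.erase x)
      (fun y hy => hl' y (List.mem_of_mem_erase hy)) (fun y hy => hl y (List.mem_of_mem_erase hy))
      (fun y hy z hz => hc' y (List.mem_of_mem_erase hy) z (List.mem_of_mem_erase hz))
      (fun y hy z hz => hc y (List.mem_of_mem_erase hy) z (List.mem_of_mem_erase hz))
      (by rw [List.length_erase_of_mem hx, hlen]; norm_num)
      (by rw [List.length_erase_of_mem hx, List.length_erase_of_mem hx0, hlen]; simp)
      (mul_left_cancel e1)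
    intro y
    rw [p1.mem_iff, p0.mem_iff, List.mem_cons, List.mem_cons, hpair y]
  · push Not at hcom
    refine Or.inr ?_
    have hla : ∀ x ∈ l, x ∈ perp D a := fun x hx =>
      ⟨hl' x hx, fun h => hcom x hx (by simp [h]), hcross a (by simp) x hx⟩
    have hlist : ∀ x ∈ b :: c :: l, x ∈ perp D a := by
      intro x hx
      simp only [List.mem_cons] at hx
      rcases hx with rfl | rfl | hx
      exacts [hbp, hcp, hla x hx]
    have hcl : ∀ x ∈ b :: c :: l, ∀ y ∈ b :: c :: l, Commute x y := by
      intro x hx y hy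
      have hh : ∀ z ∈ b :: c :: l, z ∈ [a, b, c] ∨ z ∈ l := by
        intro z hz
        simp only [List.mem_cons] at hz
        rcases hz with rfl | rfl | hz
        exacts [Or.inl (by simp), Or.inl (by simp), Or.inr hz]
      rcases hh x hx with hx | hx <;> rcases hh y hy with hy | hy
      exacts [hc x hx y hy, hcross x hx y hy, (hcross y hy x hx).symm, hc' x hx y hy]
    have hpl : (b :: c :: l).prod = a := by
      rw [List.prod_cons, List.prod_cons, heq]
      simp only [List.prod_cons, List.prod_nil, mul_one]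
      calc b * (c * (a * (b * c))) = b * c * (b * c) * a := by
            rw [(cab.mul_right cac).eq]; simp only [mul_assoc]
        _ = a := by
            rw [show b * c * (b * c) = (b * c) ^ 2 from (pow_two _).symm, cbc.mul_pow, pow_two, pow_two,
              mul_self hD hb, mul_self hD hcD, one_mul, one_mul]
    have hndl : (b :: c :: l).Nodup := by
      rw [List.nodup_cons, List.nodup_cons]
      refine ⟨?_, fun h => hcom c h (by simp), hnd'⟩
      simp only [List.mem_cons, not_or]
      exact ⟨hbc, fun h => hcom b h (by simp)⟩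
    have hsubl : l ⊆ [e, f, g] := by
      intro x hx
      have hxl := hline x (hla x hx) (U.five_span hK hS hB h5 hlen hndl hlist hcl
        (fun y hy => by rw [hpl]; exact hy.2.2) hx)
      simp only [List.mem_cons, List.not_mem_nil, or_false] at hxl ⊢
      rcases hxl with rfl | rfl | h
      · exact absurd (by simp) (hcom _ hx)
      · exact absurd (by simp) (hcom _ hx)
      · exact h
    exact fun x => ((List.Nodup.subperm hnd' hsubl).perm_of_length_le (by rw [hlen]; simp)).mem_iff

end Cfsg.Lib.Fischer.Relations
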