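import Cfsg.Agent.Lib.Fischer.Primitive

/-!
# Products of pairwise commuting transpositions

A member outside a commuting set of size at most three never commutes with the product of that set.
So short central products are trivial, and the bound grows by one with each passage to a neighbourhood.
-/

set_option autoImplicit false
set_option linter.unusedSectionVars false

namespace Cfsg.Lib.Fischer.Relations

open Cfsg.Lib.Fischer

variable {G : Type*} [Group G]

/-- A commuting duplicate-free list of at most `n` members of `S` whose product centralizes `S` is empty. -/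
def NoRel (S : Set G) (n : ℕ) : Prop :=
  ∀ l : List G, l.Nodup → (∀ a ∈ l, a ∈ S) → (∀ a ∈ l, ∀ b ∈ l, Commute a b) →
    (∀ y ∈ S, Commute l.prod y) → l.length ≤ n → l = []

theorem prod_perm {l l' : List G} (h : l.Perm l') (hc : ∀ a ∈ l, ∀ b ∈ l, Commute a b) :
    l.prod = l'.prod :=
  h.prod_eq' (List.pairwise_of_forall_mem_list hc)

theorem prod_split (l : List G) (q : G → Bool) (hc : ∀ a ∈ l, ∀ b ∈ l, Commute a b) :
    l.prod = (l.filter q).prod * (l.filter fun x => !q x).prod := by
  rw [← List.prod_append]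
  exact prod_perm (List.filter_append_perm q l).symm hc

variable {D : Set G} (hD : Trans D)
include hD

theorem eq_of_cj_eq {a b x : G} (ha : a ∈ D) (hb : b ∈ D) (hx : x ∈ D) (hna : ¬ Commute x a)
    (hnb : ¬ Commute x b) (h : cj a x = cj b x) : a = b := by
  rw [← braid hD hx ha hna, ← braid hD hx hb hnb, cj_inj hD hx] at h
  exact h

/-- A member away from three commuting members is moved by their product. -/
theorem triple_moves {a b c x : G} (ha : a ∈ D) (hb : b ∈ D) (hc : c ∈ D) (hx : x ∈ D) (hac : a ≠ c)
    (hc1 : Commute a c) (hna : ¬ Commute x a) (hnc : ¬ Commute x c) : cj b (cj c x) ≠ cj a x := by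
  intro h
  have hyz : Commute (cj a x) (cj c x) := by
    rw [← braid hD hx ha hna, ← braid hD hx hc hnc, commute_cj hD hx]
    exact hc1
  by_cases hbz : Commute b (cj c x)
  · rw [cj_of_commute hD hb hbz] at h
    exact hac (eq_of_cj_eq hD ha hc hx hna hnc h.symm)
  · exact not_commute_cj' hD hb (cj_mem hD hc hx) hbz (h ▸ hyz.symm)

/-- A member commuting with the product of commuting members fails to commute with none or at least four. -/
theorem pattern {x : G} (hx : x ∈ D) {l : List G} (hnd : l.Nodup) (hl : ∀ a ∈ l, a ∈ D)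
    (hc : ∀ a ∈ l, ∀ b ∈ l, Commute a b) (hp : Commute l.prod x) [DecidablePred fun a => ¬ Commute x a] :
    (l.filter fun a => decide (¬ Commute x a)).length = 0 ∨
      4 ≤ (l.filter fun a => decide (¬ Commute x a)).length := by
  have hrest : Commute (l.filter fun a => !(decide (¬ Commute x a))).prod x := by
    refine Commute.list_prod_left _ _ fun a ha => ?_
    simp only [List.mem_filter, Bool.not_eq_true', decide_eq_false_iff_not, not_not] at ha
    exact ha.2.symm
  have hf : Commute (l.filter fun a => decide (¬ Commute x a)).prod x := by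
    have h := prod_split l (fun a => decide (¬ Commute x a)) hc
    rw [show (l.filter fun a => decide (¬ Commute x a)).prod =
      l.prod * ((l.filter fun a => !(decide (¬ Commute x a))).prod)⁻¹ by rw [h, mul_inv_cancel_right]]
    exact hp.mul_left hrest.inv_left
  have hmem : ∀ a ∈ (l.filter fun a => decide (¬ Commute x a)), a ∈ D ∧ ¬ Commute x a ∧ a ∈ l := by
    intro a ha
    simp only [List.mem_filter, decide_eq_true_eq] at ha
    exact ⟨hl a ha.1, ha.2, ha.1⟩
  have hnd' := hnd.filter fun a => decide (¬ Commute x a)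
  rcases hfl : (l.filter fun a => decide (¬ Commute x a)) with _ | ⟨a, _ | ⟨b, _ | ⟨c, _ | ⟨e, t⟩⟩⟩⟩
  · exact Or.inl rfl
  · rw [hfl] at hf hmem
    rw [List.prod_singleton] at hf
    exact absurd hf.symm (hmem a (by simp)).2.1
  · rw [hfl] at hf hmem hnd'
    obtain ⟨haD, hax, -⟩ := hmem a (by simp)
    obtain ⟨hbD, hbx, -⟩ := hmem b (by simp)
    have e : cj a (cj b x) = x := by
      rw [List.prod_cons, List.prod_singleton] at hf
      calc cj a (cj b x) = a * b * x * (a * b)⁻¹ := by
            rw [cj_conj hD haD, cj_conj hD hbD]; group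
        _ = x := by rw [hf.eq, mul_inv_cancel_right]
    have e' : cj b x = cj a x := by rw [← cj_cj hD haD (cj b x), e]
    simp at hnd'
    exact absurd (eq_of_cj_eq hD hbD haD hx hbx hax e').symm hnd'
  · rw [hfl] at hf hmem hnd'
    obtain ⟨haD, hax, hal⟩ := hmem a (by simp)
    obtain ⟨hbD, -, -⟩ := hmem b (by simp)
    obtain ⟨hcD, hcx, hcl⟩ := hmem c (by simp)
    have e : cj a (cj b (cj c x)) = x := by
      rw [List.prod_cons, List.prod_cons, List.prod_singleton] at hf
      calc cj a (cj b (cj c x)) = a * (b * c) * x * (a * (b * c))⁻¹ := by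
            rw [cj_conj hD haD, cj_conj hD hbD, cj_conj hD hcD]; group
        _ = x := by rw [hf.eq, mul_inv_cancel_right]
    have e' : cj b (cj c x) = cj a x := by rw [← cj_cj hD haD (cj b (cj c x)), e]
    simp at hnd'
    exact absurd e' (triple_moves hD haD hbD hcD hx hnd'.1.2 (hc a hal c hcl) hax hcx)
  · exact Or.inr (by simp)

/-- Short central products in a set where each member is determined by the members commuting with it. -/
theorem noRel_four {S : Set G} (hS : S ⊆ D) (hnc : ∀ a ∈ S, ∃ e ∈ S, ¬ Commute a e)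
    (hsep : ∀ a ∈ S, ∀ b ∈ S, (∀ e ∈ S, Commute a e ↔ Commute b e) → a = b) : NoRel S 4 := by
  classical
  intro l hnd hl hc hp hlen
  by_contra hne
  have hall : ∀ y ∈ S, ∀ a ∈ l, ∀ b ∈ l, Commute a y → Commute b y := by
    intro y hy a ha b hb hay
    by_contra hby
    rcases pattern hD (hS hy) hnd (fun a ha => hS (hl a ha)) hc (hp y hy) with h | h
    · rw [List.length_eq_zero_iff, List.filter_eq_nil_iff] at h
      exact h b hb (by simpa using fun h' : Commute y b => hby h'.symm)
    · have hfull : (l.filter fun a => decide (¬ Commute y a)) = l :=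
        List.filter_sublist.eq_of_length
          (le_antisymm List.filter_sublist.length_le (hlen.trans h))
      have := (List.filter_eq_self.1 hfull) a ha
      simp only [decide_eq_true_eq] at this
      exact this hay.symm
  rcases l with _ | ⟨a, _ | ⟨b, t⟩⟩
  · exact hne rfl
  · obtain ⟨e, he, hn⟩ := hnc a (hl a (by simp))
    exact hn (by simpa using hp e he)
  · have : a = b := hsep a (hl a (by simp)) b (hl b (by simp)) fun e he =>
      ⟨hall e he a (by simp) b (by simp), hall e he b (by simp) a (by simp)⟩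
    simp [this] at hnd

/-- Conjugating a central product. -/
theorem prod_conj_list (g : G) (l : List G) :
    (l.map fun a => g * a * g⁻¹).prod = g * l.prod * g⁻¹ :=
  (map_list_prod (MulAut.conj g).toMonoidHom l).symm

/-- A bound for one neighbourhood gives the next bound for the class. -/
theorem noRel_succ {d : G} (hd : d ∈ D) {n : ℕ} (h : NoRel (perp D d) n)
    (hne : ∃ a ∈ D, ∃ b ∈ D, a ≠ b) : NoRel D (n + 1) := by
  classical
  intro l hnd hl hc hp hlen
  rcases l with _ | ⟨a, t⟩
  · rfl
  exfalso
  obtain ⟨g, hg⟩ := hD.trans a (hl a (by simp)) d hd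
  obtain ⟨t', ht'⟩ : ∃ t', t' = t.map fun x => g * x * g⁻¹ := ⟨_, rfl⟩
  have hinj : Function.Injective fun x : G => g * x * g⁻¹ := (MulAut.conj g).injective
  rw [List.nodup_cons] at hnd
  have hmem : ∀ x ∈ t', x ∈ perp D d := by
    intro x hx
    rw [ht', List.mem_map] at hx
    obtain ⟨x, hx, rfl⟩ := hx
    refine ⟨hD.conj g x (hl x (by simp [hx])), fun e => hnd.1 ?_, ?_⟩
    · rwa [← hinj (e.trans hg.symm)]
    · rw [← hg]; exact (Commute.conj_iff g).2 (hc a (by simp) x (by simp [hx]))
  have hcent : ∀ y ∈ D, Commute (d * t'.prod) y := by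
    intro y hy
    have h1 := (Commute.conj_iff g).2 (hp _ (hD.conj g⁻¹ y hy))
    rw [List.prod_cons] at h1
    have e : g * (a * t.prod) * g⁻¹ = d * t'.prod := by rw [ht', prod_conj_list hD g, ← hg]; group
    rw [e] at h1
    simpa [mul_assoc] using h1
  have ht'nil : t' = [] := by
    refine h t' (ht' ▸ hnd.2.map hinj) hmem ?_ ?_ ?_
    · intro x hx y hy
      rw [ht', List.mem_map] at hx hy
      obtain ⟨x, hx, rfl⟩ := hx
      obtain ⟨y, hy, rfl⟩ := hy
      exact (Commute.conj_iff g).2 (hc x (by simp [hx]) y (by simp [hy]))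
    · intro y hy
      have e : t'.prod = d * (d * t'.prod) := by rw [← mul_assoc, mul_self hD hd, one_mul]
      rw [e]
      exact hy.2.2.mul_left (hcent y hy.1)
    · rw [ht', List.length_map]; simpa using hlen
  obtain ⟨e, he, hn⟩ := exists_noncommuting hD hne hd
  exact hn (by simpa [ht'nil] using hcent e he)

/-- Each member commutes with the product of a commuting list containing it. -/
theorem commute_prod_self {l : List G} (hc : ∀ a ∈ l, ∀ b ∈ l, Commute a b) {a : G} (ha : a ∈ l) :
    Commute l.prod a :=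
  Commute.list_prod_left _ _ fun x hx => hc x hx a ha

/-- Two commuting lists with the same product commute with each other when the second is short. -/
theorem cross_commute {l l' : List G} (hnd : l.Nodup) (hl : ∀ a ∈ l, a ∈ D)
    (hc : ∀ a ∈ l, ∀ b ∈ l, Commute a b) (hl' : ∀ a ∈ l', a ∈ D)
    (hc' : ∀ a ∈ l', ∀ b ∈ l', Commute a b) (h3 : l.length ≤ 3) (heq : l.prod = l'.prod) :
    ∀ a ∈ l, ∀ b ∈ l', Commute a b := by
  classical
  intro a ha b hb
  rcases pattern hD (hl' b hb) hnd hl hc (heq ▸ commute_prod_self hD hc' hb) with h | h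
  · rw [List.length_eq_zero_iff, List.filter_eq_nil_iff] at h
    exact (show Commute b a by simpa using h a ha).symm
  · have := (List.filter_sublist (l := l) (p := fun a => decide (¬ Commute b a))).length_le
    omega

/-- The members that two equal products do not share form a central product. -/
theorem symmDiff_prod [DecidableEq G] {l l' : List G} (hnd : l.Nodup) (hnd' : l'.Nodup)
    (hl : ∀ a ∈ l, a ∈ D) (hl' : ∀ a ∈ l', a ∈ D) (hc : ∀ a ∈ l ++ l', ∀ b ∈ l ++ l', Commute a b)
    (heq : l.prod = l'.prod) :
    ((l.filter fun x => !decide (x ∈ l')) ++ (l'.filter fun x => !decide (x ∈ l))).prod = 1 := by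
  have hcl : ∀ a ∈ l, ∀ b ∈ l, Commute a b := fun a ha b hb => hc a (by simp [ha]) b (by simp [hb])
  have hcl' : ∀ a ∈ l', ∀ b ∈ l', Commute a b := fun a ha b hb => hc a (by simp [ha]) b (by simp [hb])
  have h1 := prod_split l (fun x => decide (x ∈ l')) hcl
  have h2 := prod_split l' (fun x => decide (x ∈ l)) hcl'
  have h3 : (l.filter fun x => decide (x ∈ l')).prod = (l'.filter fun x => decide (x ∈ l)).prod := by
    refine prod_perm ((List.perm_ext_iff_of_nodup (hnd.filter _) (hnd'.filter _)).2 fun x => ?_)
      fun a ha b hb => hcl a (List.mem_filter.1 ha).1 b (List.mem_filter.1 hb).1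
    simp [and_comm]
  rw [h1, h2, h3] at heq
  rw [List.prod_append, mul_left_cancel heq]
  have hsq : ∀ t : List G, (∀ a ∈ t, a ∈ D) → (∀ a ∈ t, ∀ b ∈ t, Commute a b) → t.prod * t.prod = 1 := by
    intro t
    induction t with
    | nil => simp
    | cons a t ih =>
      intro ht htc
      have hcom : Commute a t.prod :=
        Commute.list_prod_right _ _ fun x hx => htc a (by simp) x (by simp [hx])
      rw [List.prod_cons, ← pow_two, hcom.mul_pow, pow_two, pow_two, mul_self hD (ht a (by simp)), one_mul]
      exact ih (fun x hx => ht x (by simp [hx])) fun x hx y hy => htc x (by simp [hx]) y (by simp [hy])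
  exact hsq _ (fun a ha => hl' a (List.mem_filter.1 ha).1)
    fun a ha b hb => hcl' a (List.mem_filter.1 ha).1 b (List.mem_filter.1 hb).1

/-- Equal short products have the same members. -/
theorem mem_iff_of_prod_eq {n : ℕ} (h : NoRel D n) {l l' : List G} (hnd : l.Nodup) (hnd' : l'.Nodup)
    (hl : ∀ a ∈ l, a ∈ D) (hl' : ∀ a ∈ l', a ∈ D)
    (hc : ∀ a ∈ l, ∀ b ∈ l, Commute a b) (hc' : ∀ a ∈ l', ∀ b ∈ l', Commute a b)
    (h3 : l.length ≤ 3) (hlen : l.length + l'.length ≤ n) (heq : l.prod = l'.prod) :
    ∀ x, x ∈ l ↔ x ∈ l' := by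
  classical
  have hcross := cross_commute hD hnd hl hc hl' hc' h3 heq
  have hall : ∀ a ∈ l ++ l', ∀ b ∈ l ++ l', Commute a b := by
    intro a ha b hb
    rcases List.mem_append.1 ha with ha | ha <;> rcases List.mem_append.1 hb with hb | hb
    exacts [hc a ha b hb, hcross a ha b hb, (hcross b hb a ha).symm, hc' a ha b hb]
  have hs := h ((l.filter fun x => !decide (x ∈ l')) ++ (l'.filter fun x => !decide (x ∈ l))) ?_ ?_ ?_ ?_ ?_
  · rw [List.append_eq_nil_iff, List.filter_eq_nil_iff, List.filter_eq_nil_iff] at hs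
    exact fun x => ⟨fun hx => by simpa using hs.1 x hx, fun hx => by simpa using hs.2 x hx⟩
  · exact List.nodup_append.2 ⟨hnd.filter _, hnd'.filter _, fun a ha b hb e => by
      simp [List.mem_filter] at ha hb
      exact ha.2 (e ▸ hb.1)⟩
  · intro a ha
    simp [List.mem_filter] at ha
    rcases ha with ha | ha
    exacts [hl a ha.1, hl' a ha.1]
  · exact fun a ha b hb => hall a (List.mem_append.2 ((List.mem_append.1 ha).imp
      (fun h => (List.mem_filter.1 h).1) fun h => (List.mem_filter.1 h).1))
      b (List.mem_append.2 ((List.mem_append.1 hb).imp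
      (fun h => (List.mem_filter.1 h).1) fun h => (List.mem_filter.1 h).1))
  · rw [symmDiff_prod hD hnd hnd' hl hl' hall heq]
    exact fun y _ => Commute.one_left y
  · have := (List.filter_sublist (l := l) (p := fun x => !decide (x ∈ l'))).length_le
    have := (List.filter_sublist (l := l') (p := fun x => !decide (x ∈ l))).length_le
    simp only [List.length_append]
    omega

/-- A neighbour of `a` fails to commute with some other neighbour. -/
theorem exists_perp_noncommute [Finite G]
    (hsep : ∀ a ∈ D, ∀ b ∈ D, (∀ e ∈ D, Commute a e ↔ Commute b e) → a = b)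
    {a b : G} (ha : a ∈ D) (hb : b ∈ perp D a) : ∃ e ∈ perp D a, ¬ Commute b e := by
  by_contra h
  push Not at h
  obtain ⟨g, hg⟩ := hD.trans b hb.1 a ha
  have hsub : {e | e ∈ D ∧ Commute a e} ⊆ {e | e ∈ D ∧ Commute b e} := fun e he => by
    rcases eq_or_ne e a with rfl | hne
    · exact ⟨he.1, hb.2.2.symm⟩
    · exact ⟨he.1, h e ⟨he.1, hne, he.2⟩⟩
  have heq : {e | e ∈ D ∧ Commute a e} = {e | e ∈ D ∧ Commute b e} := by
    refine Set.eq_of_subset_of_ncard_le hsub ?_ (Set.toFinite _)
    rw [← Set.ncard_image_of_injective {e | e ∈ D ∧ Commute b e} (MulAut.conj g).injective]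
    refine Set.ncard_le_ncard ?_ (Set.toFinite _)
    rintro _ ⟨y, hy, rfl⟩
    exact ⟨hD.conj g y hy.1, hg ▸ (Commute.conj_iff g).2 hy.2⟩
  refine hb.2.1 (hsep a ha b hb.1 fun e he => ?_).symm
  exact ⟨fun hc => (hsub ⟨he, hc⟩).2, fun hc => ((Set.ext_iff.1 heq e).2 ⟨he, hc⟩).2⟩

/-- Members are determined by their commuting members when the core at two is central. -/
theorem sep_of_core [Finite G] (hne : ∃ a ∈ D, ∃ b ∈ D, a ≠ b)
    (h2 : Cfsg.pCore 2 G ≤ Subgroup.center G) :
    ∀ a ∈ D, ∀ b ∈ D, (∀ e ∈ D, Commute a e ↔ Commute b e) → a = b := fun _ ha _ hb h =>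
  eq_of_mul_mem_center hD hne h2 ha hb (h2 (mul_mem_two_of_sameComm hD ha hb h))

end Cfsg.Lib.Fischer.Relations
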