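import Cfsg.Agent.Lib.Fischer.Relations.Model

/-!
# Hexads

In a class whose neighbourhoods are coordinatised by a unitary space, two neighbours of a member that
commute extend to six members with product one, and these six are unique.
-/

set_option autoImplicit false
set_option linter.unusedSectionVars false

namespace Cfsg.Lib.Fischer.Relations

open Module Cfsg Cfsg.Lib.Fischer Cfsg.Lib.Linear.Herm Cfsg.Agent.S1631

variable {G : Type*} [Group G]
variable {F V : Type*} [Field F] [Fintype F] [AddCommGroup V] [Module F V] [FiniteDimensional F V]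
  {σ : F →+* F} {B : V →ₛₗ[σ] V →ₗ[F] F}

namespace UData

variable {S : Set G} (U : UData S B) (hK : FourField F σ) (hS : B.IsSymm) (hB : B.Nondegenerate)
  (h5 : 5 ≤ finrank F V)
include U hK hS hB h5

theorem exists_noncommute {a : G} (ha : a ∈ S) : ∃ e ∈ S, ¬ Commute a e := by
  obtain ⟨r, hr, hr0, hne⟩ := Linear.exists_iso_ne hK hS hB h5 (U.ne a ha)
  obtain ⟨e, he, k, hk, hc⟩ := U.every r hr hr0
  exact ⟨e, he, fun h => hne (by
    have := (U.comm a ha e he).1 h
    rw [hc, map_smul, smul_eq_mul] at this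
    exact (mul_eq_zero.1 this).resolve_left hk)⟩

theorem sep {a b : G} (ha : a ∈ S) (hb : b ∈ S) (h : ∀ e ∈ S, Commute a e ↔ Commute b e) : a = b := by
  obtain ⟨k, hk⟩ := Linear.mem_span_of_perp hK hS hB h5 (p := U.c a) (q := U.c b) fun r hr hr0 hpr => by
    obtain ⟨e, he, k, hk, hc⟩ := U.every r hr hr0
    have h1 := (U.comm b hb e he).1 ((h e he).1 ((U.comm a ha e he).2 (by rw [hc, map_smul, hpr, smul_zero])))
    rw [hc, map_smul, smul_eq_mul] at h1
    exact (mul_eq_zero.1 h1).resolve_left hk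
  exact U.inj a ha b hb k hk

theorem noRel {D : Set G} (hD : Trans D) (hSD : S ⊆ D) : NoRel S 4 :=
  noRel_four hD hSD (fun _ ha => U.exists_noncommute hK hS hB h5 ha)
    fun _ ha _ hb h => U.sep hK hS hB h5 ha hb h

/-- A product centralizing all members perpendicular to `v` moves nothing perpendicular to `v`. -/
theorem act_iso {l : List G} (hl : ∀ a ∈ l, a ∈ S) (hc : ∀ a ∈ l, ∀ b ∈ l, Commute a b) (v : V)
    (h : ∀ y ∈ S, B v (U.c y) = 0 → Commute l.prod y) :
    ∀ r, B r r = 0 → r ≠ 0 → B v r = 0 → Linear.act B (l.map U.c) r = 0 := by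
  intro r hr hr0 hvr
  obtain ⟨e, he, k, hk, hce⟩ := U.every r hr hr0
  have h1 := (U.rel l hl hc e he).1 (h e he (by rw [hce, map_smul, hvr, smul_zero]))
  rw [hce, map_smul, smul_eq_zero] at h1
  exact h1.resolve_left hk

theorem central_iff {l : List G} (hl : ∀ a ∈ l, a ∈ S) (hc : ∀ a ∈ l, ∀ b ∈ l, Commute a b) :
    (∀ y ∈ S, Commute l.prod y) ↔ ∀ x, Linear.act B (l.map U.c) x = 0 :=
  ⟨fun h => Linear.act_eq_zero hK hS hB h5 _ fun r hr hr0 =>
      U.act_iso hK hS hB h5 hl hc 0 (fun y hy _ => h y hy) r hr hr0 (by simp),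
    fun h y hy => (U.rel l hl hc y hy).2 (h _)⟩

/-- Two commuting members lie in five whose product centralizes all. -/
theorem exists_five {b₁ b₂ : G} (h₁ : b₁ ∈ S) (h₂ : b₂ ∈ S) (hne : b₁ ≠ b₂) (hc : Commute b₁ b₂) :
    ∃ e f g : G, e ∈ S ∧ f ∈ S ∧ g ∈ S ∧ [b₁, b₂, e, f, g].Nodup ∧
      (∀ x ∈ [b₁, b₂, e, f, g], ∀ y ∈ [b₁, b₂, e, f, g], Commute x y) ∧
      (∀ y ∈ S, Commute [b₁, b₂, e, f, g].prod y) ∧
      ∀ s ∈ S, (∃ α β : F, U.c s = α • U.c b₁ + β • U.c b₂) → s ∈ [b₁, b₂, e, f, g] := by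
  classical
  obtain ⟨w, hw⟩ : ∃ w, w = U.c b₁ := ⟨_, rfl⟩
  obtain ⟨z, hz⟩ : ∃ z, z = U.c b₂ := ⟨_, rfl⟩
  have hww : B w w = 0 := hw ▸ U.iso b₁ h₁
  have hzz : B z z = 0 := hz ▸ U.iso b₂ h₂
  have hwz : B w z = 0 := hw ▸ hz ▸ (U.comm b₁ h₁ b₂ h₂).1 hc
  have hzw : B z w = 0 := hS.isRefl _ _ hwz
  have hw0 : w ≠ 0 := hw ▸ U.ne b₁ h₁
  have hzw' : ∀ k : F, z ≠ k • w := fun k hk => hne (U.inj b₁ h₁ b₂ h₂ k (by rw [← hw, ← hz]; exact hk))
  obtain ⟨ω, hω⟩ := Linear.exists_omega hK hS hB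
  have hω0 : ω ≠ 0 := fun e => hω (by rw [e, map_zero])
  have hω1 : ω ≠ 1 := fun e => hω (by rw [e, map_one])
  have hsω0 : σ ω ≠ 0 := fun e => hω0 (σ.injective (by rw [e, map_zero]))
  have hsω1 : σ ω ≠ 1 := fun e => hω1 (σ.injective (by rw [e, map_one]))
  have hiso : ∀ t : F, B (w + t • z) (w + t • z) = 0 := fun t => by
    simp [hww, hzz, hwz, hzw]
  have hne0 : ∀ t : F, w + t • z ≠ 0 := fun t h => by
    rcases eq_or_ne t 0 with rfl | ht
    · exact hw0 (by simpa using h)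
    · refine hzw' (-t⁻¹) ?_
      have := congrArg (fun v => t⁻¹ • v) (eq_neg_of_add_eq_zero_right h)
      simp only [smul_smul, inv_mul_cancel₀ ht, one_smul, smul_neg] at this
      rw [this, neg_smul]
  choose p hpS k hk hpc using fun t : F => U.every _ (hiso t) (hne0 t)
  have hpne : ∀ t t' : F, p t = p t' → t = t' := by
    intro t t' h
    have e : k t • (w + t • z) = k t' • (w + t' • z) := by rw [← hpc, ← hpc, h]
    by_contra htt
    have e2 : (k t * t - k t' * t') • z = (k t' - k t) • w := by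
      rw [sub_smul, sub_smul, mul_smul, mul_smul, sub_eq_sub_iff_add_eq_add, add_comm, ← smul_add, e,
        smul_add]
    rcases eq_or_ne (k t * t - k t' * t') 0 with h0 | h0
    · rw [h0, zero_smul] at e2
      have hkk : k t' = k t := sub_eq_zero.1 ((smul_eq_zero.1 e2.symm).resolve_right hw0)
      rw [hkk, ← mul_sub, mul_eq_zero, sub_eq_zero] at h0
      exact htt (h0.resolve_left (hk t))
    · refine hzw' ((k t * t - k t' * t')⁻¹ * (k t' - k t)) ?_
      rw [mul_smul, ← e2, smul_smul, inv_mul_cancel₀ h0, one_smul]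
  have hp1 : ∀ t : F, t ≠ 0 → p t ≠ b₁ := fun t ht h => by
    have e : w = k t • (w + t • z) := by rw [← hpc, h, hw]
    have e2 : (k t * t) • z = (1 - k t) • w := by
      rw [sub_smul, one_smul, eq_sub_iff_add_eq, add_comm, mul_smul, ← smul_add]
      exact e.symm
    refine hzw' ((k t * t)⁻¹ * (1 - k t)) ?_
    rw [mul_smul, ← e2, smul_smul, inv_mul_cancel₀ (mul_ne_zero (hk t) ht), one_smul]
  have hp2 : ∀ t : F, p t ≠ b₂ := fun t h => by
    have e : z = k t • (w + t • z) := by rw [← hpc, h, hz]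
    have e2 : (1 - k t * t) • z = k t • w := by
      rw [sub_smul, one_smul, mul_smul]
      nth_rw 1 [e]
      rw [smul_add, add_sub_cancel_right]
    rcases eq_or_ne (1 - k t * t) 0 with h0 | h0
    · rw [h0, zero_smul] at e2
      exact hw0 ((smul_eq_zero.1 e2.symm).resolve_left (hk t))
    · refine hzw' ((1 - k t * t)⁻¹ * k t) ?_
      rw [mul_smul, ← e2, smul_smul, inv_mul_cancel₀ h0, one_smul]
  have hin : ∀ s ∈ [b₁, b₂, p 1, p ω, p (σ ω)], s ∈ S := by
    simp [h₁, h₂, hpS]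
  have hspan : ∀ s ∈ [b₁, b₂, p 1, p ω, p (σ ω)], ∃ α β : F, U.c s = α • w + β • z := by
    intro s hs
    simp only [List.mem_cons, List.not_mem_nil, or_false] at hs
    rcases hs with rfl | rfl | rfl | rfl | rfl
    · exact ⟨1, 0, by simp [hw]⟩
    · exact ⟨0, 1, by simp [hz]⟩
    all_goals exact ⟨_, _, by rw [hpc, smul_add, smul_smul]⟩
  have hcom : ∀ x ∈ [b₁, b₂, p 1, p ω, p (σ ω)], ∀ y ∈ [b₁, b₂, p 1, p ω, p (σ ω)], Commute x y := by
    intro x hx y hy
    obtain ⟨α, β, ex⟩ := hspan x hx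
    obtain ⟨γ, δ, ey⟩ := hspan y hy
    exact (U.comm x (hin x hx) y (hin y hy)).2 (by simp [ex, ey, hww, hzz, hwz, hzw])
  refine ⟨p 1, p ω, p (σ ω), hpS _, hpS _, hpS _, ?_, hcom, ?_, ?_⟩
  · simp only [List.nodup_cons, List.mem_cons, List.not_mem_nil, or_false, not_or, List.nodup_nil, and_true,
      not_false_eq_true]
    exact ⟨⟨hne, (hp1 1 one_ne_zero).symm, (hp1 ω hω0).symm, (hp1 _ hsω0).symm⟩,
      ⟨(hp2 _).symm, (hp2 _).symm, (hp2 _).symm⟩,
      ⟨fun h => hω1 (hpne _ _ h).symm, fun h => hsω1 (hpne _ _ h).symm⟩, fun h => hω (hpne _ _ h).symm⟩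
  · rw [U.central_iff hK hS hB h5 hin hcom]
    intro x
    have hterm : ∀ t : F, B (U.c (p t)) x • U.c (p t) = B (w + t • z) x • (w + t • z) := fun t => by
      rw [hpc, LinearMap.map_smulₛₗ, LinearMap.smul_apply, smul_eq_mul, smul_smul, hK.sq]
      congr 1
      linear_combination B (w + t • z) x * hK.cube _ (hk t)
    have h := Linear.line_act hK hS hB (w := w) (z := z) hω x
    simp only [List.map_cons, List.map_nil, Linear.act_cons, hterm, one_smul, ← hw, ← hz] at h ⊢
    exact h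
  · intro s hs hex
    obtain ⟨α, β, hαβ⟩ := hex
    rw [← hw, ← hz] at hαβ
    rcases eq_or_ne α 0 with rfl | hα
    · have : b₂ = s := U.inj b₂ h₂ s hs β (by rw [hαβ, ← hz, zero_smul, zero_add])
      simp [this]
    have key : ∀ t, β = α * t → p t = s := fun t ht => by
      refine U.inj _ (hpS t) s hs (α * (k t)⁻¹) ?_
      rw [hpc, smul_smul, mul_assoc, inv_mul_cancel₀ (hk t), mul_one, hαβ, ht, smul_add, smul_smul]
    rcases eq_or_ne β 0 with rfl | hβ
    · have : b₁ = s := U.inj b₁ h₁ s hs α (by rw [hαβ, ← hw, zero_smul, add_zero])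
      simp [this]
    obtain ⟨t, rfl⟩ : ∃ t, β = α * t := ⟨α⁻¹ * β, by rw [← mul_assoc, mul_inv_cancel₀ hα, one_mul]⟩
    have ht0 : t ≠ 0 := fun h => hβ (by rw [h, mul_zero])
    have ht : t = 1 ∨ t = ω ∨ t = σ ω := by
      have hN := hK.cube ω hω0
      have h2 : ω * ω + ω + 1 = 0 := by
        have : (ω - 1) * (ω * ω + ω + 1) = 0 := by linear_combination hN
        exact (mul_eq_zero.1 this).resolve_left (sub_ne_zero.2 hω1)
      have : (t - 1) * ((t - ω) * (t - σ ω)) = 0 := by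
        rw [hK.sq ω]
        linear_combination hK.cube t ht0 - hN - t * t * h2 + t * ω * h2
      rcases mul_eq_zero.1 this with h | h
      · exact Or.inl (sub_eq_zero.1 h)
      rcases mul_eq_zero.1 h with h | h
      · exact Or.inr (Or.inl (sub_eq_zero.1 h))
      · exact Or.inr (Or.inr (sub_eq_zero.1 h))
    rw [← key t rfl]
    rcases ht with rfl | rfl | rfl <;> simp

/-- Five members with central product lie on the line of the first two. -/
theorem five_span {b₁ b₂ : G} {t : List G} (ht : t.length = 3) (hnd : (b₁ :: b₂ :: t).Nodup)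
    (hl : ∀ a ∈ b₁ :: b₂ :: t, a ∈ S) (hc : ∀ a ∈ b₁ :: b₂ :: t, ∀ b ∈ b₁ :: b₂ :: t, Commute a b)
    (hp : ∀ y ∈ S, Commute (b₁ :: b₂ :: t).prod y) {s : G} (hs : s ∈ t) :
    ∃ α β : F, U.c s = α • U.c b₁ + β • U.c b₂ := by
  classical
  have hperm : (b₁ :: b₂ :: t).Perm (b₁ :: b₂ :: s :: t.erase s) :=
    ((List.perm_cons_erase hs).cons b₂).cons b₁
  obtain ⟨u, v, huv⟩ : ∃ u v, t.erase s = [u, v] := by
    have : (t.erase s).length = 2 := by rw [List.length_erase_of_mem hs, ht]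
    match t.erase s, this with
    | [u, v], _ => exact ⟨u, v, rfl⟩
  rw [huv] at hperm
  have hne : b₁ ≠ b₂ := by
    intro h
    simp [h] at hnd
  have h0 : ∀ x, Linear.act B [U.c b₁, U.c b₂, U.c s, U.c u, U.c v] x = 0 := by
    intro x
    have h := (U.central_iff hK hS hB h5 hl hc).1 hp x
    rw [Linear.act_apply] at h ⊢
    rw [← h]
    exact (((hperm.map U.c).map _).sum_eq).symm
  refine Linear.five_unique hK hS hB ?_ (U.ne b₁ (hl b₁ (by simp))) h0
  intro hmem
  obtain ⟨k, hk⟩ := Submodule.mem_span_singleton.1 hmem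
  exact hne (U.inj b₁ (hl b₁ (by simp)) b₂ (hl b₂ (by simp)) k hk.symm)

end UData

/-- Transport of coordinates along conjugation. -/
def UData.conj {D : Set G} (hD : Trans D) {d : G} (U : UData (perp D d) B) (g : G) :
    UData (perp D (g * d * g⁻¹)) B where
  c x := U.c (g⁻¹ * x * g)
  iso s hs := U.iso _ ((mem_perp_conj hD g d s).1 hs)
  ne s hs := U.ne _ ((mem_perp_conj hD g d s).1 hs)
  comm a ha b hb := by
    rw [← U.comm _ ((mem_perp_conj hD g d a).1 ha) _ ((mem_perp_conj hD g d b).1 hb)]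
    have := Commute.conj_iff g⁻¹ (a := a) (b := b)
    rw [inv_inv] at this
    exact this.symm
  every w hw hw0 := by
    obtain ⟨s, hs, k, hk, hc⟩ := U.every w hw hw0
    refine ⟨g * s * g⁻¹, (mem_perp_conj hD g d _).2 (by simpa [mul_assoc] using hs), k, hk, ?_⟩
    simpa [mul_assoc] using hc
  inj a ha b hb k hk := by
    have := U.inj _ ((mem_perp_conj hD g d a).1 ha) _ ((mem_perp_conj hD g d b).1 hb) k hk
    simpa using this
  rel l hl hc y hy := by
    have h := U.rel (l.map fun a => g⁻¹ * a * g) (fun a ha => by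
        rw [List.mem_map] at ha
        obtain ⟨x, hx, rfl⟩ := ha
        exact (mem_perp_conj hD g d x).1 (hl x hx)) (fun a ha b hb => by
        rw [List.mem_map] at ha hb
        obtain ⟨x, hx, rfl⟩ := ha
        obtain ⟨x', hx', rfl⟩ := hb
        simpa using (Commute.conj_iff g⁻¹).2 (hc x hx x' hx')) _ ((mem_perp_conj hD g d y).1 hy)
    rw [List.map_map] at h
    refine Iff.trans ?_ h
    have e : (l.map fun a => g⁻¹ * a * g).prod = g⁻¹ * l.prod * (g⁻¹)⁻¹ := by
      rw [← prod_conj_list hD]; simp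
    rw [e]
    conv_rhs => rw [show g⁻¹ * y * g = g⁻¹ * y * (g⁻¹)⁻¹ by simp]
    exact (Commute.conj_iff g⁻¹).symm

variable [Finite G] {D : Set G} (hD : Trans D) (hK : FourField F σ) (hS : B.IsSymm) (hB : B.Nondegenerate)
  (h5 : 5 ≤ finrank F V)
include hD hK hS hB h5

theorem noRel_five {d : G} (hd : d ∈ D) (U : UData (perp D d) B) (hne : ∃ a ∈ D, ∃ b ∈ D, a ≠ b) :
    NoRel D 5 :=
  noRel_succ hD hd (U.noRel hK hS hB h5 hD fun _ h => h.1) hne

/-- The product of five members on a line of the neighbourhood of `d` is `d`. -/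
theorem line_prod (hprim : Cfsg.IsPrimitiveUnderConj D) (hZ : Subgroup.center G = ⊥)
    (hsep : ∀ a ∈ D, ∀ b ∈ D, (∀ e ∈ D, Commute a e ↔ Commute b e) → a = b)
    {d : G} (hd : d ∈ D) (U : UData (perp D d) B) {b : G} {t : List G} (ht : t.length = 4)
    (hnd : (b :: t).Nodup) (hl : ∀ a ∈ b :: t, a ∈ perp D d)
    (hc : ∀ a ∈ b :: t, ∀ a' ∈ b :: t, Commute a a')
    (hp : ∀ y ∈ perp D d, Commute (b :: t).prod y) : (b :: t).prod = d := by
  classical
  have hb := hl b (by simp)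
  obtain ⟨g, hg⟩ := hD.trans d hd b hb.1
  have Ub : UData (perp D b) B := hg ▸ U.conj hD g
  have htb : ∀ a ∈ t, a ∈ perp D b := fun a ha => ⟨(hl a (by simp [ha])).1, fun e => by
    rw [List.nodup_cons] at hnd; exact hnd.1 (e ▸ ha), hc b (by simp) a (by simp [ha])⟩
  have hct : ∀ a ∈ t, ∀ a' ∈ t, Commute a a' := fun a ha a' ha' => hc a (by simp [ha]) a' (by simp [ha'])
  have hdb : d ∈ perp D b := ⟨hd, hb.2.1.symm, hb.2.2.symm⟩
  have hdt : ∀ a ∈ b :: t, Commute d a := fun a ha => (hl a ha).2.2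
  have htp : t.prod = b * (b :: t).prod := by rw [List.prod_cons, ← mul_assoc, mul_self hD hb.1, one_mul]
  have hiso := Ub.act_iso hK hS hB h5 htb hct (Ub.c d) (fun y hy hy0 => by
    have hdy : Commute d y := (Ub.comm d hdb y hy).2 hy0
    rw [htp]
    refine hy.2.2.mul_left ?_
    rcases eq_or_ne y d with rfl | hyd
    · exact (Commute.list_prod_left _ _ fun a ha => (hdt a ha).symm)
    · exact hp y ⟨hy.1, hyd, hdy⟩)
  rcases Linear.act_cases hK hS hB h5 (Ub.ne d hdb) _ hiso with h | h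
  · have := Ub.noRel hK hS hB h5 hD (fun _ h => h.1) t (List.nodup_cons.1 hnd).2 htb hct
      ((Ub.central_iff hK hS hB h5 htb hct).2 h) ht.le
    simp [this] at ht
  have hlt : ∀ a ∈ d :: t, a ∈ perp D b := by
    intro a ha
    rcases List.mem_cons.1 ha with rfl | ha
    exacts [hdb, htb a ha]
  have hcdt : ∀ a ∈ d :: t, ∀ a' ∈ d :: t, Commute a a' := by
    intro a ha a' ha'
    rcases List.mem_cons.1 ha with e | ha <;> rcases List.mem_cons.1 ha' with e' | ha'
    · rw [e, e']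
    · rw [e]; exact hdt a' (by simp [ha'])
    · rw [e']; exact (hdt a (by simp [ha])).symm
    · exact hct a ha a' ha'
  have hz : ∀ y ∈ perp D b, Commute (d :: t).prod y := (Ub.central_iff hK hS hB h5 hlt hcdt).2 fun x => by
    rw [List.map_cons, Linear.act_cons, h, Linear.add_self hK hS hB]
  obtain ⟨z, hzdef⟩ : ∃ z, z = (b :: t).prod := ⟨_, rfl⟩
  let K : Subgroup G := Subgroup.closure {x | x ∈ D ∧ Commute (z * d) x}
  have hzd : Commute z d := hzdef ▸ Commute.list_prod_left _ _ fun a ha => (hdt a ha).symm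
  have hH : Subgroup.closure {y : G | y ∈ D ∧ Commute d y} ≤ K := by
    refine Subgroup.closure_mono fun y hy => ⟨hy.1, ?_⟩
    rcases eq_or_ne y d with rfl | hyd
    · exact hzd.mul_left (Commute.refl _)
    · exact (hzdef ▸ hp y ⟨hy.1, hyd, hy.2⟩).mul_left hy.2
  have hKD : Cfsg.IsDSubgroup D K :=
    le_antisymm ((Subgroup.closure_le _).2 fun x hx => hx.2)
      (Subgroup.closure_mono fun x hx => ⟨hx.1, Subgroup.subset_closure hx⟩)
  obtain ⟨y, hy, hyd⟩ := exists_perp_noncommute hD hsep hb.1 hdb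
  have hyK : y ∈ K := by
    refine Subgroup.subset_closure ⟨hy.1, ?_⟩
    have e : z * d = b * (d :: t).prod := by
      rw [List.prod_cons, ← mul_assoc, ← (hdt b (by simp)).eq, mul_assoc, ← List.prod_cons, ← hzdef]
      exact hzd.eq
    rw [e]
    exact hy.2.2.mul_left (hz y hy)
  rcases closure_maximal hD hprim ⟨d, hd, b, hb.1, hb.2.1.symm, hb.2.2⟩ hd K hKD hH with hK' | hK'
  · exfalso
    have hle : Subgroup.closure {x : G | x ∈ D ∧ Commute d x} ≤ Subgroup.centralizer ({d} : Set G) :=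
      (Subgroup.closure_le _).2 fun x hx => Subgroup.mem_centralizer_singleton_iff.2 hx.2.eq.symm
    exact hyd (Subgroup.mem_centralizer_singleton_iff.1 (hle (hK' ▸ hyK))).symm
  · have hcen : z * d ∈ Subgroup.center G := by
      rw [Subgroup.mem_center_iff]
      intro x
      have hle : K ≤ Subgroup.centralizer ({z * d} : Set G) :=
        (Subgroup.closure_le _).2 fun y hy => Subgroup.mem_centralizer_singleton_iff.2 hy.2.eq.symm
      exact Subgroup.mem_centralizer_singleton_iff.1 (hle (hK' ▸ Subgroup.mem_top x))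
    rw [hZ, Subgroup.mem_bot] at hcen
    rw [← hzdef, eq_inv_of_mul_eq_one_left hcen, inv_eq hD hd]

end Cfsg.Lib.Fischer.Relations
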