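import Cfsg.Agent.Lib.Fischer.Relations.SepM22

/-!
# Types M(23) and M(24): no central product of at most six commuting members
-/

set_option autoImplicit false
set_option linter.unusedSectionVars false

namespace Cfsg.Lib.Fischer.Relations

open Module Cfsg Cfsg.Lib.Fischer Cfsg.Lib.Linear.Herm Cfsg.Agent.S1631 Cfsg.Lib.Fischer.RadicalAbelian

variable {G : Type*} [Group G] [Finite G] {D : Set G}

/-- A bound in the quotient of a neighbourhood gives the next bound in the class. -/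
theorem noRel_lift (hD : Trans D)
    (hsep : ∀ a ∈ D, ∀ b ∈ D, (∀ e ∈ D, Commute a e ↔ Commute b e) → a = b) {d : G} (hd : d ∈ D)
    (hne : ∃ a ∈ D, ∃ b ∈ D, a ≠ b) {n : ℕ} (h : NoRel (image (perp D d)) n) : NoRel D (n + 1) :=
  noRel_succ hD hd (noRel_of_image hD (fun _ h => h.1)
    (fun _ ha => exists_perp_noncommute hD hsep hd ha) h) hne

/-- The quotient class of a neighbourhood is one class, with separated members. -/
theorem quot_setup (hD : Trans D) (hprim : Cfsg.IsPrimitiveUnderConj D) (hZ : Subgroup.center G = ⊥) {d : G}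
    (hd : d ∈ D)
    (h2 : Cfsg.pCore 2 ↥(Subgroup.closure (perp D d)) ≤ Subgroup.center ↥(Subgroup.closure (perp D d)))
    (hex : ∃ x ∈ image (perp D d), ∃ y ∈ image (perp D d), ¬ Commute x y) :
    (∀ a ∈ D, ∀ b ∈ D, (∀ e ∈ D, Commute a e ↔ Commute b e) → a = b) ∧ Trans (image (perp D d)) ∧
      (∀ a ∈ image (perp D d), ∀ b ∈ image (perp D d),
        (∀ e ∈ image (perp D d), Commute a e ↔ Commute b e) → a = b) ∧
      ∃ a ∈ image (perp D d), ∃ b ∈ image (perp D d), a ≠ b := by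
  obtain ⟨x, hx, y, hy, hxy⟩ := hex
  obtain ⟨b, hb, -⟩ := exists_bar hx
  have hw : ∃ a ∈ D, ∃ b ∈ D, a ≠ b ∧ Commute a b := ⟨d, hd, b, hb.1, Ne.symm hb.2.1, hb.2.2⟩
  have hsep := sep_of_core hD hprim.2.1 (core_le_center_of_primitive hD hprim hw).1
  have hT := trans_image (isFischer_of_primitive hD hprim hw hZ) hsep hd ⟨b, hb⟩
  have hne : ∃ a ∈ image (perp D d), ∃ b ∈ image (perp D d), a ≠ b :=
    ⟨x, hx, y, hy, fun e => hxy (e ▸ Commute.refl x)⟩
  exact ⟨hsep, hT, sep_of_core hT hne (by rw [pCore_quot_center_eq_bot h2]; exact bot_le), hne⟩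

theorem m23_noRel (hD : Trans D) (hprim : Cfsg.IsPrimitiveUnderConj D) (h23 : Cfsg.IsOfTypeM23 G D)
    (h2 : ∀ d ∈ D, Cfsg.pCore 2 ↥(Subgroup.closure (perp D d)) ≤ Subgroup.center ↥(Subgroup.closure (perp D d))) :
    NoRel D 6 := by
  obtain ⟨hZ, d, hd, c, -, -, h22, -⟩ := h23
  replace h22 : Cfsg.IsOfTypeM22 _ (image (perp D d)) := h22
  obtain ⟨-, e, he, c', hc', hec, ⟨F, i1, i2, hF, ⟨iso⟩⟩, -⟩ := h22
  obtain ⟨hsep, hT, hsepE, hne⟩ := quot_setup hD hprim hZ hd (h2 d hd) ⟨e, he, c', hc', hec⟩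
  have hF' : Fintype.card F = 2 ^ 2 := hF
  obtain ⟨U⟩ := exists_udata hT hsepE he hF' iso
  exact noRel_lift hD hsep hd hprim.2.1
    (noRel_five hT (fourField hF') (hB_isSymm hF' 6) (hB_nondegenerate hF' 6)
      (by rw [finrank_fin_fun]; norm_num) he U hne)

theorem m24_noRel (hD : Trans D) (hprim : Cfsg.IsPrimitiveUnderConj D) (h24 : Cfsg.IsOfTypeM24 G D)
    (h2 : ∀ d ∈ D, Cfsg.pCore 2 ↥(Subgroup.closure (perp D d)) ≤ Subgroup.center ↥(Subgroup.closure (perp D d))) :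
    NoRel D 6 := by
  obtain ⟨hZ, d, hd, c, -, -, h23, -⟩ := h24
  replace h23 : Cfsg.IsOfTypeM23 _ (image (perp D d)) := h23
  obtain ⟨-, e, he, c', hc', hec, h22, -⟩ := h23
  obtain ⟨hsep, hT, hsepE, hne⟩ := quot_setup hD hprim hZ hd (h2 d hd) ⟨e, he, c', hc', hec⟩
  replace h22 : Cfsg.IsOfTypeM22 _ (image (perp (image (perp D d)) e)) := h22
  have hnc : ∀ a ∈ perp (image (perp D d)) e, ∃ f ∈ perp (image (perp D d)) e, ¬ Commute a f :=
    fun a ha => exists_perp_noncommute hT hsepE he ha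
  have hE2 := image_group hT (S := perp (image (perp D d)) e) (fun _ h => h.1) (fun x hx s hs =>
    ((conj_mem_perp hT he (Subgroup.closure_mono (Set.subset_insert _ _) hx)).2 s hs).1) hnc
  have hsep2 := sep_m22 hE2 h22
  refine noRel_lift hD hsep hd hprim.2.1 (noRel_succ hT he
    (noRel_four hT (fun _ h => h.1) hnc fun a ha b hb hab => ?_) hne)
  refine bar_inj hT (fun _ h => h.1) hnc ha hb (hsep2 _ (bar_mem ha) _ (bar_mem hb) fun f hf => ?_)
  obtain ⟨y, hy, rfl⟩ := exists_bar hf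
  rw [bar_commute hT (fun _ h => h.1) ha hy, bar_commute hT (fun _ h => h.1) hb hy]
  exact hab y hy

end Cfsg.Lib.Fischer.Relations
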