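import Cfsg.Agent.Lib.Fischer.Relations.Hexad
import Cfsg.Agent.Lib.Linear.PSUSimple
import Cfsg.Agent.Lib.Linear.OrthReflThreeStructure
import Cfsg.Prelude.Def_FischerSpaces

/-!
# Passing from a neighbourhood to the class

The class of a type M(22) group has no central product of length at most five; quotients of
neighbourhood groups by their centres transfer such bounds upwards.
-/

set_option autoImplicit false
set_option linter.unusedSectionVars false

namespace Cfsg.Lib.Fischer.Relations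

open Module Cfsg Cfsg.Lib.Fischer

variable {G : Type*} [Group G] [Finite G]

theorem pCore_quot_center_eq_bot (h2 : Cfsg.pCore 2 G ≤ Subgroup.center G) :
    Cfsg.pCore 2 (G ⧸ Subgroup.center G) = ⊥ := by
  haveI : Fact (Nat.Prime 2) := ⟨Nat.prime_two⟩
  obtain ⟨M, hM⟩ : ∃ M, M = (Cfsg.pCore 2 (G ⧸ Subgroup.center G)).comap (QuotientGroup.mk' (Subgroup.center G)) :=
    ⟨_, rfl⟩
  haveI hMn : M.Normal := by rw [hM]; exact Subgroup.Normal.comap inferInstance _
  let f : M →* ↥(Cfsg.pCore 2 (G ⧸ Subgroup.center G)) :=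
    ((QuotientGroup.mk' _).comp M.subtype).codRestrict _ fun m => by
      have := m.2; simp only [hM, Subgroup.mem_comap] at this; exact this
  haveI := (Lib.Core.pCore_isPGroup 2 (G ⧸ Subgroup.center G)).isNilpotent
  haveI : Group.IsNilpotent M := Subgroup.isNilpotent_of_ker_le_center f fun m hm => by
    rw [Subgroup.mem_center_iff]
    intro k
    have h := congrArg Subtype.val (MonoidHom.mem_ker.1 hm)
    exact Subtype.ext (Subgroup.mem_center_iff.1 ((QuotientGroup.eq_one_iff (m : G)).1 h) k)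
  let P : Sylow 2 M := default
  haveI hPn : (P : Subgroup M).Normal := Sylow.normal_of_normalizerCondition Group.normalizerCondition_of_isNilpotent P
  haveI hPc : (P : Subgroup M).Characteristic := Sylow.characteristic_of_normal P hPn
  haveI : ((P : Subgroup M).map M.subtype).Normal := ConjAct.normal_of_characteristic_of_normal
  have hP : (P : Subgroup M).map M.subtype ≤ Subgroup.center G :=
    (Lib.Core.le_pCore' inferInstance (P.2.map _)).trans h2
  rw [eq_bot_iff]
  intro x hx
  obtain ⟨g, rfl⟩ := QuotientGroup.mk'_surjective _ x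
  have hgM : g ∈ M := by rw [hM]; exact hx
  rw [Subgroup.mem_bot]
  obtain ⟨k, hk⟩ := Lib.Core.pCore_isPGroup 2 (G ⧸ Subgroup.center G) ⟨_, hx⟩
  have h1 : (QuotientGroup.mk' (Subgroup.center G) g) ^ 2 ^ k = 1 := congrArg Subtype.val hk
  obtain ⟨m, r, hr, hgo⟩ := Nat.exists_eq_pow_mul_and_not_dvd (orderOf_pos g).ne' 2 (by norm_num)
  have hgr : g ^ r ∈ Subgroup.center G := by
    refine hP ⟨⟨g, hgM⟩ ^ r, ?_, rfl⟩
    have hz : IsPGroup 2 (Subgroup.zpowers ((⟨g, hgM⟩ : M) ^ r)) := by
      refine IsPGroup.of_card (n := m) ?_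
      rw [Nat.card_zpowers, orderOf_pow' _ (fun e => hr (by simp [e])), ← Subgroup.orderOf_coe, hgo,
        Nat.gcd_mul_left_left]
      exact Nat.mul_div_cancel _ (Nat.pos_of_ne_zero fun e => hr (by simp [e]))
    obtain ⟨S, hS⟩ := hz.exists_le_sylow
    haveI : Subsingleton (Sylow 2 M) := (Sylow.unique_of_normal P hPn).instSubsingleton
    rw [Subsingleton.elim S P] at hS
    exact hS (Subgroup.mem_zpowers _)
  have h2' : (QuotientGroup.mk' (Subgroup.center G) g) ^ r = 1 := by
    rw [← map_pow]; exact (QuotientGroup.eq_one_iff _).2 hgr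
  have hcop : Nat.Coprime (2 ^ k) r :=
    Nat.Coprime.pow_left k (Nat.prime_two.coprime_iff_not_dvd.2 hr)
  have := Nat.eq_one_of_dvd_coprimes hcop (orderOf_dvd_of_pow_eq_one h1) (orderOf_dvd_of_pow_eq_one h2')
  exact orderOf_eq_one_iff.1 this

theorem isFischer_of_primitive {D : Set G} (hD : Trans D) (hprim : Cfsg.IsPrimitiveUnderConj D)
    (hw : ∃ a ∈ D, ∃ b ∈ D, a ≠ b ∧ Commute a b) (hZ : Subgroup.center G = ⊥) : IsFischer D := by
  obtain ⟨h2, h3⟩ := core_le_center_of_primitive hD hprim hw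
  obtain ⟨L, hLn, hL, -, hF⟩ := exists_quasisimple hD hprim.2.1 h2 h3
  haveI := hLn
  refine ⟨hD, fun N hN hNs => ?_, ?_⟩
  · have h := Lib.Core.component_commute_solvable hL (H := N) hNs (by
      haveI := hN; exact Subgroup.le_normalizer_of_normal)
    rw [Subgroup.commutator_comm, Subgroup.commutator_eq_bot_iff_le_centralizer] at h
    exact le_bot_iff.1 ((h.trans (centralizer_le_center hD h2 h3 hF)).trans hZ.le)
  · rw [commutator_eq hD hL (index_le_two_of_connected hD hL (connected_of_primitive hD hprim hw))]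
    exact Lib.Core.IsComponent.commutator_eq hL

section Quot

variable {D : Set G} (hD : Trans D) {S : Set G} (hS : S ⊆ D) (hnc : ∀ a ∈ S, ∃ e ∈ S, ¬ Commute a e)

/-- The image of `S` in its group modulo the centre. -/
def image (S : Set G) : Set (↥(Subgroup.closure S) ⧸ Subgroup.center ↥(Subgroup.closure S)) :=
  (QuotientGroup.mk : ↥(Subgroup.closure S) → _) '' {x : ↥(Subgroup.closure S) | (x : G) ∈ S}

/-- A member in the quotient. -/
def bar {S : Set G} {a : G} (ha : a ∈ S) : ↥(Subgroup.closure S) ⧸ Subgroup.center ↥(Subgroup.closure S) :=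
  QuotientGroup.mk ⟨a, Subgroup.subset_closure ha⟩

theorem bar_mem {S : Set G} {a : G} (ha : a ∈ S) : bar ha ∈ image S := ⟨_, ha, rfl⟩

theorem exists_bar {S : Set G} {x : ↥(Subgroup.closure S) ⧸ Subgroup.center ↥(Subgroup.closure S)}
    (hx : x ∈ image S) : ∃ (a : G) (ha : a ∈ S), bar ha = x := by
  obtain ⟨y, hy, rfl⟩ := hx
  exact ⟨y, hy, rfl⟩

theorem image_closure (S : Set G) : Subgroup.closure (image S) = ⊤ := by
  rw [image, show (QuotientGroup.mk : ↥(Subgroup.closure S) → _) =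
    ⇑(QuotientGroup.mk' (Subgroup.center ↥(Subgroup.closure S))) from rfl, ← MonoidHom.map_closure,
    show {x : ↥(Subgroup.closure S) | (x : G) ∈ S} = ((↑) : _ → G) ⁻¹' S from rfl,
    Subgroup.closure_closure_coe_preimage, Subgroup.map_top_of_surjective _ (QuotientGroup.mk'_surjective _)]

include hD hS

theorem bar_sq {a : G} (ha : a ∈ S) : bar ha * bar ha = 1 := by
  rw [bar, ← QuotientGroup.mk_mul, show (⟨a, Subgroup.subset_closure ha⟩ : Subgroup.closure S) *
    ⟨a, Subgroup.subset_closure ha⟩ = 1 from Subtype.ext (mul_self hD (hS ha)), QuotientGroup.mk_one]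

theorem bar_commute {a b : G} (ha : a ∈ S) (hb : b ∈ S) : Commute (bar ha) (bar hb) ↔ Commute a b := by
  refine ⟨fun h => ?_, fun h => Commute.map (show Commute
    (⟨a, Subgroup.subset_closure ha⟩ : Subgroup.closure S) ⟨b, Subgroup.subset_closure hb⟩ from
      Subtype.ext h.eq) (QuotientGroup.mk' _)⟩
  by_contra hn
  obtain ⟨a', ha'⟩ : ∃ a' : Subgroup.closure S, a' = ⟨a, Subgroup.subset_closure ha⟩ := ⟨_, rfl⟩
  obtain ⟨b', hb'⟩ : ∃ b' : Subgroup.closure S, b' = ⟨b, Subgroup.subset_closure hb⟩ := ⟨_, rfl⟩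
  have h3 : (bar ha * bar hb) ^ 3 = 1 := by
    rw [bar, bar, ← QuotientGroup.mk_mul, ← QuotientGroup.mk_pow,
      show ((⟨a, Subgroup.subset_closure ha⟩ : Subgroup.closure S) * ⟨b, Subgroup.subset_closure hb⟩) ^ 3 = 1
        from Subtype.ext (orderOf_mul hD a b (hS ha) (hS hb) hn), QuotientGroup.mk_one]
  rw [pow_succ, h.mul_pow, pow_two, pow_two, bar_sq hD hS ha, bar_sq hD hS hb, one_mul, one_mul, bar, bar,
    ← QuotientGroup.mk_mul, QuotientGroup.eq_one_iff] at h3
  have h' := congrArg Subtype.val (Subgroup.mem_center_iff.1 h3 ⟨a, Subgroup.subset_closure ha⟩)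
  simp only [Subgroup.coe_mul] at h'
  rw [← mul_assoc, mul_self hD (hS ha), one_mul] at h'
  refine hn ?_
  show a * b = b * a
  nth_rw 1 [h']
  rw [← mul_assoc, ← mul_assoc, mul_self hD (hS ha), one_mul]

include hnc

theorem bar_ne_one {a : G} (ha : a ∈ S) : bar ha ≠ 1 := fun h => by
  obtain ⟨e, he, hn⟩ := hnc a ha
  exact hn (congrArg Subtype.val (Subgroup.mem_center_iff.1 ((QuotientGroup.eq_one_iff _).1 h)
    ⟨e, Subgroup.subset_closure he⟩)).symm

theorem bar_inj {a b : G} (ha : a ∈ S) (hb : b ∈ S) (h : bar ha = bar hb) : a = b := by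
  obtain ⟨e, he, hn⟩ := hnc a ha
  have hnb : ¬ Commute b e := fun hc => hn ((bar_commute hD hS ha he).1 (h ▸ (bar_commute hD hS hb he).2 hc))
  have h' : e * (a * b) = a * b * e := by
    have := congrArg Subtype.val (Subgroup.mem_center_iff.1 (QuotientGroup.eq.1 h) ⟨e, Subgroup.subset_closure he⟩)
    simpa [inv_eq hD (hS ha)] using this
  refine eq_of_cj_eq hD (hS ha) (hS hb) (hS he) (fun h => hn h.symm) (fun h => hnb h.symm) ?_
  calc cj a e = a * (e * (a * b)) * b := by
        simp only [cj_def, mul_assoc]; rw [mul_self hD (hS hb), mul_one]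
    _ = cj b e := by rw [h', cj_def, ← mul_assoc, ← mul_assoc, mul_self hD (hS ha), one_mul]

theorem noRel_of_image {n : ℕ} (h : NoRel (image S) n) : NoRel S n := by
  intro l hnd hl hc hp hlen
  obtain ⟨l', hl'⟩ : ∃ l', l' = l.pmap (fun a ha => bar (S := S) ha) hl := ⟨_, rfl⟩
  have hnd' : l'.Nodup := hl' ▸ hnd.pmap fun a ha b hb e => bar_inj hD hS hnc ha hb e
  have : l' = [] := by
    refine h l' hnd' ?_ ?_ ?_ (by rw [hl', List.length_pmap]; exact hlen)
    · intro x hx
      rw [hl', List.mem_pmap] at hx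
      obtain ⟨a, ha, rfl⟩ := hx
      exact bar_mem _
    · intro x hx y hy
      rw [hl', List.mem_pmap] at hx hy
      obtain ⟨a, ha, rfl⟩ := hx
      obtain ⟨b, hb, rfl⟩ := hy
      exact (bar_commute hD hS _ _).2 (hc a ha b hb)
    · intro y hy
      obtain ⟨b, hb, rfl⟩ := exists_bar hy
      have hwmem : l.prod ∈ Subgroup.closure S := list_prod_mem fun a ha => Subgroup.subset_closure (hl a ha)
      have hl'p : l'.prod = QuotientGroup.mk (⟨l.prod, hwmem⟩ : Subgroup.closure S) := by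
        rw [hl']
        clear hp hlen hnd hc hnd' hl'
        induction l with
        | nil => simp only [List.pmap, List.prod_nil]; exact QuotientGroup.mk_one _ |>.symm
        | cons a t ih =>
          rw [List.pmap, List.prod_cons, ih (fun x hx => hl x (by simp [hx]))
            (list_prod_mem fun x hx => Subgroup.subset_closure (hl x (by simp [hx]))), bar, ← QuotientGroup.mk_mul]
          congr 1
      rw [hl'p]
      exact Commute.map (show Commute (⟨l.prod, hwmem⟩ : Subgroup.closure S) ⟨b, Subgroup.subset_closure hb⟩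
        from Subtype.ext (hp b hb).eq) (QuotientGroup.mk' _)
  rw [hl'] at this
  simpa using this

omit hnc in
theorem image_group (hconj : ∀ x ∈ Subgroup.closure S, ∀ s ∈ S, x * s * x⁻¹ ∈ S)
    (hnc : ∀ a ∈ S, ∃ e ∈ S, ¬ Commute a e) : Cfsg.IsThreeTranspositionGroup (image S) := by
  refine ⟨⟨?_, ?_⟩, ?_, image_closure S⟩
  · intro x hx
    obtain ⟨a, ha, rfl⟩ := exists_bar hx
    exact orderOf_eq_prime (by rw [pow_two, bar_sq hD hS ha]) (bar_ne_one hD hS hnc ha)
  · intro x hx y hy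
    obtain ⟨a, ha, rfl⟩ := exists_bar hx
    obtain ⟨b, hb, rfl⟩ := exists_bar hy
    have e : ∀ n : ℕ, (a * b) ^ n = 1 → (bar ha * bar hb) ^ n = 1 := fun n h => by
      rw [bar, bar, ← QuotientGroup.mk_mul, ← QuotientGroup.mk_pow, show ((⟨a, Subgroup.subset_closure ha⟩ :
        Subgroup.closure S) * ⟨b, Subgroup.subset_closure hb⟩) ^ n = 1 from Subtype.ext (by simpa using h),
        QuotientGroup.mk_one]
    exact (hD.set.2 a (hS ha) b (hS hb)).imp (e 2) (e 3)
  · intro g x hx
    obtain ⟨a, ha, rfl⟩ := exists_bar hx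
    obtain ⟨g, rfl⟩ := QuotientGroup.mk_surjective g
    have : bar (hconj g g.2 a ha) ∈ image S := bar_mem _
    convert this using 1
    simp only [bar, ← QuotientGroup.mk_inv, ← QuotientGroup.mk_mul]
    rfl

end Quot

section Class

variable {D : Set G} (hF : IsFischer D) (hsep : ∀ a ∈ D, ∀ b ∈ D, (∀ e ∈ D, Commute a e ↔ Commute b e) → a = b)
  {d : G} (hd : d ∈ D)
include hF hsep hd

/-- The image of a neighbourhood is one class. -/
theorem trans_image (hne : (perp D d).Nonempty) : Trans (image (perp D d)) := by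
  have hD := hF.toTrans
  have hnc : ∀ a ∈ perp D d, ∃ e ∈ perp D d, ¬ Commute a e := fun a ha => exists_perp_noncommute hD hsep hd ha
  obtain ⟨h1, h2, h3⟩ := image_group hD (S := perp D d) (fun _ h => h.1) (fun x hx s hs =>
    ((conj_mem_perp hD hd (Subgroup.closure_mono (Set.subset_insert _ _) hx)).2 s hs).1) hnc
  refine ⟨h1, h2, fun x hx y hy => ?_, h3, ?_⟩
  · obtain ⟨a, ha, rfl⟩ := exists_bar hx
    obtain ⟨b, hb, rfl⟩ := exists_bar hy
    obtain ⟨g, hg, rfl⟩ := perp_transitive hF hd ha hb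
    refine ⟨QuotientGroup.mk ⟨g, hg⟩, ?_⟩
    simp only [bar, ← QuotientGroup.mk_inv, ← QuotientGroup.mk_mul]
    rfl
  · obtain ⟨a, ha⟩ := hne
    exact ⟨_, bar_mem ha⟩

end Class

section Types

variable {D : Set G} (hD : Trans D)
include hD

/-- Centrality of the core at two passes to conjugate neighbourhoods. -/
theorem core_perp_conj (g d : G)
    (h2 : Cfsg.pCore 2 ↥(Subgroup.closure (perp D d)) ≤ Subgroup.center ↥(Subgroup.closure (perp D d))) :
    Cfsg.pCore 2 ↥(Subgroup.closure (perp D (g * d * g⁻¹))) ≤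
      Subgroup.center ↥(Subgroup.closure (perp D (g * d * g⁻¹))) := by
  have hinj : Function.Injective (MulAut.conj g).toMonoidHom := (MulAut.conj g).injective
  have hmap : (Subgroup.closure (perp D d)).map (MulAut.conj g).toMonoidHom =
      Subgroup.closure (perp D (g * d * g⁻¹)) := by
    rw [MonoidHom.map_closure]
    congr 1
    ext z
    rw [mem_perp_conj hD]
    refine ⟨?_, fun h => ⟨_, h, by simp [mul_assoc]⟩⟩
    rintro ⟨y, hy, rfl⟩
    simpa [mul_assoc] using hy
  let e : ↥(Subgroup.closure (perp D d)) ≃* ↥(Subgroup.closure (perp D (g * d * g⁻¹))) :=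
    ((Subgroup.closure (perp D d)).equivMapOfInjective _ hinj).trans (MulEquiv.subgroupCongr hmap)
  intro x hx
  rw [← Lib.Core.map_pCore_equiv e] at hx
  obtain ⟨y, hy, rfl⟩ := hx
  rw [Subgroup.mem_center_iff]
  intro z
  obtain ⟨z, rfl⟩ := e.surjective z
  show e z * e y = e y * e z
  rw [← map_mul, ← map_mul, Subgroup.mem_center_iff.1 (h2 hy) z]

omit hD in
theorem perp_nonempty_of_psu {F : Type*} [Field F] [Fintype F] (hF : Fintype.card F = 2 ^ 2) {d : G}
    (e : ↥(Subgroup.closure (perp D d)) ⧸ Subgroup.center ↥(Subgroup.closure (perp D d)) ≃* Cfsg.PSU 6 F 2) :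
    (perp D d).Nonempty := by
  haveI := Lib.Linear.Herm.psu_simple hF (n := 6) (by norm_num)
  by_contra h
  rw [Set.not_nonempty_iff_eq_empty] at h
  haveI : Subsingleton ↥(Subgroup.closure (perp D d)) := ⟨fun x y => Subtype.ext (by
    have hx := x.2; have hy := y.2
    simp only [h, Subgroup.closure_empty, Subgroup.mem_bot] at hx hy
    rw [hx, hy])⟩
  haveI : Nontrivial (Cfsg.PSU 6 F 2) := inferInstance
  obtain ⟨x, y, hxy⟩ := exists_pair_ne (Cfsg.PSU 6 F 2)
  obtain ⟨x, rfl⟩ := e.surjective x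
  obtain ⟨y, rfl⟩ := e.surjective y
  obtain ⟨x, rfl⟩ := QuotientGroup.mk_surjective x
  obtain ⟨y, rfl⟩ := QuotientGroup.mk_surjective y
  exact hxy (by rw [Subsingleton.elim x y])

/-- The data of a primitive class of type M(22). -/
theorem m22_setup (hprim : Cfsg.IsPrimitiveUnderConj D) (h22 : Cfsg.IsOfTypeM22 G D) :
    Subgroup.center G = ⊥ ∧ (∀ a ∈ D, ∀ b ∈ D, (∀ e ∈ D, Commute a e ↔ Commute b e) → a = b) ∧
      ∃ (F : Type) (_ : Field F) (_ : Fintype F) (hF : Fintype.card F = 2 ^ 2),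
        ∀ d ∈ D, Nonempty (UData (perp D d) (Linear.Herm.hB hF 6)) := by
  obtain ⟨hZ, d, hd, c, -, -, ⟨F, i1, i2, hF, ⟨e⟩⟩, -⟩ := h22
  have hF' : Fintype.card F = 2 ^ 2 := hF
  obtain ⟨b, hb⟩ := perp_nonempty_of_psu (D := D) hF' e
  have hw : ∃ a ∈ D, ∃ b ∈ D, a ≠ b ∧ Commute a b := ⟨d, hd, b, hb.1, Ne.symm hb.2.1, hb.2.2⟩
  have hsep := sep_of_core hD hprim.2.1 (core_le_center_of_primitive hD hprim hw).1
  obtain ⟨U⟩ := exists_udata hD hsep hd hF' e
  refine ⟨hZ, hsep, F, i1, i2, hF', fun a ha => ?_⟩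
  obtain ⟨g, rfl⟩ := hD.trans d hd a ha
  exact ⟨U.conj hD g⟩

end Types

end Cfsg.Lib.Fischer.Relations
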