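import Cfsg.Agent.Lib.Fischer.Relations.Levels
import Mathlib.LinearAlgebra.Matrix.GeneralLinearGroup.Card

/-!
# A group of type M(22) separates its transpositions

No two members have the same commuting members. Transitivity is not assumed: a nontrivial fibre of the
relation would force a projective reflection group in dimension six to have the order of `PSU(6, 2)`.
-/

set_option autoImplicit false
set_option linter.unusedSectionVars false

namespace Cfsg.Lib.Fischer.Relations

open Cfsg Cfsg.Lib.Fischer Cfsg.Lib.Linear.Herm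

section Orders

theorem card_quot_center {G : Type*} [Group G] {T K : Subgroup G} (hTK : T ≤ K)
    (hs : Function.Surjective ((QuotientGroup.mk' (Subgroup.center ↥K)).comp (Subgroup.inclusion hTK))) :
    Nat.card (↥K ⧸ Subgroup.center ↥K) = Nat.card (↥T ⧸ Subgroup.center ↥T) := by
  have hker : ((QuotientGroup.mk' (Subgroup.center ↥K)).comp (Subgroup.inclusion hTK)).ker = Subgroup.center ↥T := by
    ext t
    rw [MonoidHom.mem_ker, MonoidHom.comp_apply, QuotientGroup.mk'_apply, QuotientGroup.eq_one_iff,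
      Subgroup.mem_center_iff, Subgroup.mem_center_iff]
    refine ⟨fun h s => Subgroup.inclusion_injective hTK (by rw [map_mul, map_mul]; exact h _), fun h k => ?_⟩
    obtain ⟨s, hs⟩ := hs (QuotientGroup.mk k)
    rw [MonoidHom.comp_apply, QuotientGroup.mk'_apply, QuotientGroup.eq] at hs
    obtain ⟨z, hz⟩ : ∃ z, z = (Subgroup.inclusion hTK s)⁻¹ * k := ⟨_, rfl⟩
    rw [← hz] at hs
    have hk : k = Subgroup.inclusion hTK s * z := by rw [hz, mul_inv_cancel_left]
    have h1 : Commute (Subgroup.inclusion hTK s) (Subgroup.inclusion hTK t) := Commute.map (h s) _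
    have h2 : Commute z (Subgroup.inclusion hTK t) := (Subgroup.mem_center_iff.1 hs _).symm
    rw [hk]
    exact h1.mul_left h2
  rw [← Nat.card_congr (QuotientGroup.quotientKerEquivOfSurjective _ hs).toEquiv]
  exact Nat.card_congr (QuotientGroup.quotientMulEquivOfEq hker).toEquiv

theorem dvd_card_psu {F : Type*} [Field F] [Fintype F] (hF : Fintype.card F = 2 ^ 2) :
    2 ^ 15 ∣ Nat.card (Cfsg.PSU 6 F 2) := by
  have h1 := card_SU hF (n := 6) (by norm_num)
  rw [card_GU hF 6, Subgroup.card_eq_card_quotient_mul_card_subgroup (Subgroup.center ↥(Cfsg.SU 6 F 2)),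
    card_center_SU hF (by norm_num)] at h1
  refine (Nat.Coprime.pow_left 15 (show Nat.Coprime 2 9 by norm_num)).dvd_of_dvd_mul_left ?_
  refine ⟨∏ i ∈ Finset.range 6, (if Even i then 2 ^ (i + 1) + 1 else 2 ^ (i + 1) - 1), ?_⟩
  norm_num at h1 ⊢
  linarith

theorem projRefl_facts {X : Type*} [Group X] [Finite X] {μ c : ZMod 3} (hc : c ≠ 0)
    (h : Cfsg.IsProjReflectionGroupModThree X 6 μ c) :
    Cfsg.pCore 2 X = ⊥ ∧ ¬ 2 ^ 15 ∣ Nat.card X ∧ Nat.card X ≠ 1 := by
  obtain ⟨Q, hQ, -, ⟨e⟩⟩ := h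
  have hG := Linear.Orth.reflections_geometric (Linear.Orth.space_of_quadraticForm Q hQ) (by simp) hc
  have hT := hG.trans
  have hcore := pCore_quot_center_eq_bot (core_le_center_of_primitive hT hG.primitive hG.exPair).1
  refine ⟨?_, fun hd => ?_, fun h1 => ?_⟩
  · have := Lib.Core.map_pCore_equiv (p := 2) e
    rw [hcore, Subgroup.map_eq_bot_iff_of_injective _ e.injective] at this
    exact this
  · have h2 : Nat.card X ∣ Nat.card (GL (Fin 6) (ZMod 3)) := by
      rw [Nat.card_congr e.toEquiv]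
      exact (Subgroup.card_quotient_dvd_card _).trans
        ((Subgroup.card_subgroup_dvd_card _).trans (Subgroup.card_subgroup_dvd_card _))
    have h3 := hd.trans h2
    rw [Matrix.card_GL_field] at h3
    simp [Fin.prod_univ_six] at h3
  · obtain ⟨a, ha, b, hb, hne, hab⟩ := hG.exPair
    obtain ⟨x, hx, hax, -⟩ := hG.side a ha b hb hne hab
    rw [Nat.card_congr e.toEquiv, Nat.card_eq_one_iff_unique] at h1
    haveI := h1.1
    exact hax ((Subgroup.mem_center_iff.1 ((QuotientGroup.eq_one_iff a).1 (Subsingleton.elim _ _)) x).symm)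

end Orders

section Sep

variable {G : Type*} [Group G] {E : Set G} (hE : Cfsg.IsThreeTranspositionGroup E)
include hE

theorem e_sq {x : G} (hx : x ∈ E) : x * x = 1 := by
  rw [← pow_two, ← hE.1.1 x hx, pow_orderOf_eq_one]

theorem e_inv {x : G} (hx : x ∈ E) : x⁻¹ = x := inv_eq_of_mul_eq_one_right (e_sq hE hx)

theorem e_braid {a b : G} (ha : a ∈ E) (hb : b ∈ E) (h : ¬ Commute a b) : a * b * a = b * a * b := by
  rcases hE.1.2 a ha b hb with h2 | h3
  · refine absurd ?_ h
    rw [pow_two] at h2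
    show a * b = b * a
    rw [eq_inv_of_mul_eq_one_left h2, mul_inv_rev, e_inv hE ha, e_inv hE hb]
  · have h3' : a * b * a * (b * a * b) = 1 := by rw [← h3]; simp only [pow_succ, pow_zero, one_mul, mul_assoc]
    rw [eq_inv_of_mul_eq_one_left h3', mul_inv_rev, mul_inv_rev, e_inv hE ha, e_inv hE hb, mul_assoc]

theorem same_conj (g : G) {a b : G} (h : SameComm E a b) : SameComm E (g * a * g⁻¹) (g * b * g⁻¹) := by
  intro e he
  have e1 : e = g * (g⁻¹ * e * g) * g⁻¹ := by group
  rw [e1, Commute.conj_iff g, Commute.conj_iff g]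
  exact h _ (by simpa using hE.2.1 g⁻¹ e he)

/-- A product of two members with the same commuting members fixes every fibre. -/
theorem same_fix {u v y : G} (hu : u ∈ E) (hv : v ∈ E) (hy : y ∈ E) (h : SameComm E u v) :
    SameComm E y (u * v * y * (u * v)⁻¹) := by
  by_cases hc : Commute u y
  · rw [(hc.mul_left ((h y hy).1 hc)).eq, mul_inv_cancel_right]
    exact fun _ _ => Iff.rfl
  · have hc' : ¬ Commute v y := fun h' => hc ((h y hy).2 h')
    have h1 := same_conj hE u (same_conj hE y h)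
    rw [e_inv hE hy, ← e_braid hE hu hy hc, ← e_braid hE hv hy hc', e_inv hE hu] at h1
    have e1 : u * (u * y * u) * u = y := by
      rw [← mul_assoc, ← mul_assoc, e_sq hE hu, one_mul, mul_assoc, e_sq hE hu, mul_one]
    have e2 : u * (v * y * v) * u = u * v * y * (u * v)⁻¹ := by
      rw [mul_inv_rev, e_inv hE hu, e_inv hE hv]; simp only [mul_assoc]
    rwa [e1, e2] at h1

variable [Finite G]

theorem same_mem_pCore {a b : G} (ha : a ∈ E) (hb : b ∈ E) (h : SameComm E a b) : a * b ∈ Cfsg.pCore 2 G := by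
  haveI : Fact (Nat.Prime 2) := ⟨Nat.prime_two⟩
  let K : Subgroup G :=
    { carrier := {g | ∀ y ∈ E, SameComm E y (g * y * g⁻¹)}
      one_mem' := fun y _ => by rw [one_mul, inv_one, mul_one]; exact fun _ _ => Iff.rfl
      mul_mem' := fun {g g'} hg hg' y hy => by
        have h1 := same_conj hE g (hg' y hy)
        rw [show g * (g' * y * g'⁻¹) * g⁻¹ = g * g' * y * (g * g')⁻¹ by group] at h1
        exact fun e he => (hg y hy e he).trans (h1 e he)
      inv_mem' := fun {g} hg y hy => by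
        have h1 := same_conj hE g⁻¹ (hg y hy)
        rw [inv_inv, show g⁻¹ * (g * y * g⁻¹) * g = y by group] at h1
        rw [inv_inv]
        exact fun e he => (h1 e he).symm }
  haveI hKn : K.Normal := ⟨fun n hn g y hy => by
    have h1 := same_conj hE g (hn (g⁻¹ * y * g) (by simpa using hE.2.1 g⁻¹ y hy))
    rw [show g * (g⁻¹ * y * g) * g⁻¹ = y by group] at h1
    rwa [show g * n * g⁻¹ * y * (g * n * g⁻¹)⁻¹ = g * (n * (g⁻¹ * y * g) * n⁻¹) * g⁻¹ by group]⟩
  obtain ⟨M, hM⟩ : ∃ M, M = Subgroup.closure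
      {z : G | ∃ u ∈ E, ∃ v ∈ E, SameComm E a u ∧ SameComm E a v ∧ z = u * v} := ⟨_, rfl⟩
  have hMK : M ≤ K := hM ▸ (Subgroup.closure_le _).2 (by
    rintro _ ⟨u, hu, v, hv, h1, h2, rfl⟩ y hy
    exact same_fix hE hu hv hy fun e he => (h1 e he).symm.trans (h2 e he))
  have hconj : ∀ k ∈ K, ∀ m ∈ M, k * m * k⁻¹ ∈ M := by
    intro k hk m hm
    have : M.map (MulAut.conj k).toMonoidHom ≤ M := by
      rw [hM, MonoidHom.map_closure]
      refine (Subgroup.closure_le _).2 ?_
      rintro _ ⟨_, ⟨u, hu, v, hv, h1, h2, rfl⟩, rfl⟩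
      refine Subgroup.subset_closure ⟨_, hE.2.1 k u hu, _, hE.2.1 k v hv,
        fun e he => (hk a ha e he).trans (same_conj hE k h1 e he),
        fun e he => (hk a ha e he).trans (same_conj hE k h2 e he), ?_⟩
      simp [mul_assoc]
    exact this ⟨m, hm, rfl⟩
  have hn : (M.subgroupOf K).Normal :=
    ⟨fun m hm k => Subgroup.mem_subgroupOf.2 (hconj k k.2 m (Subgroup.mem_subgroupOf.1 hm))⟩
  have hp : IsPGroup 2 M := by
    obtain ⟨S, hS⟩ : ∃ S, S = {x | x ∈ E ∧ SameComm E a x} := ⟨_, rfl⟩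
    have hSc : ∀ u ∈ S, ∀ v ∈ S, Commute u v := by
      rw [hS]
      exact fun u hu v hv => commute_of_sameComm hu.1 fun e he => (hu.2 e he).symm.trans (hv.2 e he)
    have hle : M ≤ Subgroup.closure S := hM ▸ (Subgroup.closure_le _).2 (by
      rintro _ ⟨u, hu, v, hv, h1, h2, rfl⟩
      exact mul_mem (Subgroup.subset_closure (hS ▸ ⟨hu, h1⟩)) (Subgroup.subset_closure (hS ▸ ⟨hv, h2⟩)))
    haveI : IsMulCommutative (Subgroup.closure S) :=
      Subgroup.isMulCommutative_closure (fun u hu v hv => hSc u hu v hv)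
    refine IsPGroup.to_le (fun u => ⟨1, Subtype.ext ?_⟩) hle
    rw [SubmonoidClass.coe_pow, Subgroup.coe_one, pow_one]
    obtain ⟨u, hu⟩ := u
    show u ^ 2 = 1
    induction hu using Subgroup.closure_induction with
    | mem x hx => rw [pow_two, e_sq hE (hS ▸ hx : x ∈ {x | x ∈ E ∧ SameComm E a x}).1]
    | one => exact one_pow _
    | mul x y hx hy ihx ihy =>
      have hcom : Commute x y := congrArg Subtype.val (mul_comm' (⟨x, hx⟩ : Subgroup.closure S) ⟨y, hy⟩)
      rw [hcom.mul_pow, ihx, ihy, one_mul]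
    | inv x _ ih => rw [inv_pow, ih, inv_one]
  have h1 : M ≤ (Cfsg.pCore 2 K).map K.subtype := by
    have := Lib.Core.pCore_map_le_of_normal (p := 2) hMK hn
    rwa [Lib.Core.pCore_eq_top hp, ← MonoidHom.range_eq_map, Subgroup.range_subtype] at this
  have h2 : (Cfsg.pCore 2 K).map K.subtype ≤ Cfsg.pCore 2 G :=
    Lib.Core.le_pCore' inferInstance ((Lib.Core.pCore_isPGroup 2 K).map _)
  exact h2 (h1 (hM ▸ Subgroup.subset_closure ⟨a, ha, b, hb, fun _ _ => Iff.rfl, h, rfl⟩))

/-- Members with the same commuting members coincide in type M(22). -/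
theorem sep_m22 (h22 : Cfsg.IsOfTypeM22 G E) :
    ∀ a ∈ E, ∀ b ∈ E, (∀ e ∈ E, Commute a e ↔ Commute b e) → a = b := by
  obtain ⟨hZ, d, hd, c, hc, hdc, ⟨F, i1, i2, hF, ⟨eH⟩⟩, c₃, hc₃, hL⟩ := h22
  have hF' : Fintype.card F = 2 ^ 2 := hF
  by_contra hno
  push Not at hno
  obtain ⟨a₀, ha₀, b₀, hb₀, hab₀, hne₀⟩ := hno
  obtain ⟨Bs, hBs⟩ : ∃ Bs : Set G, ∀ x, x ∈ Bs ↔ x ∈ E ∧ ∃ x' ∈ E, x' ≠ x ∧ SameComm E x x' :=
    ⟨_, fun _ => Iff.rfl⟩
  have ha₀' : a₀ ∈ Bs := (hBs _).2 ⟨ha₀, b₀, hb₀, hne₀.symm, hab₀⟩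
  have hconjB : ∀ g, ∀ x ∈ Bs, g * x * g⁻¹ ∈ Bs := fun g x hx => by
    obtain ⟨hx, x', hx', hne, h⟩ := (hBs x).1 hx
    exact (hBs _).2 ⟨hE.2.1 g x hx, _, hE.2.1 g x' hx', fun e => hne (by simpa using e), same_conj hE g h⟩
  -- members with trivial and with nontrivial fibre commute
  have hsplit : ∀ u ∈ Bs, ∀ y ∈ E, y ∉ Bs → Commute u y := by
    intro u hu y hy hyn
    by_contra hn
    refine hyn ?_
    have h1 := hconjB (u * y) u hu
    rwa [mul_inv_rev, e_inv hE hy, e_inv hE ((hBs u).1 hu).1,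
      show u * y * u * (y * u) = u * (y * u * y) * u by simp only [mul_assoc],
      ← e_braid hE ((hBs u).1 hu).1 hy hn,
      show u * (u * y * u) * u = (u * u) * y * (u * u) by simp only [mul_assoc],
      e_sq hE ((hBs u).1 hu).1, one_mul, mul_one] at h1
  have hnc : ∀ x ∈ E, ∃ e ∈ E, ¬ Commute x e := by
    intro x hx
    by_contra hall
    push Not at hall
    have hmem : x ∈ Subgroup.center G := by
      rw [Subgroup.mem_center_iff]
      intro g
      have hle : Subgroup.closure E ≤ Subgroup.centralizer ({x} : Set G) :=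
        (Subgroup.closure_le _).2 fun e he => Subgroup.mem_centralizer_singleton_iff.2 (hall e he).eq.symm
      exact Subgroup.mem_centralizer_singleton_iff.1 (hle (hE.2.2 ▸ Subgroup.mem_top g))
    rw [hZ, Subgroup.mem_bot] at hmem
    simpa [hmem] using hE.1.1 x hx
  obtain ⟨X, hX⟩ : ∃ X : Set G, X =
      {y : G | y ∈ E ∧ y ≠ d ∧ Commute d y} ∩ {y : G | y ∈ E ∧ y ≠ c ∧ Commute c y} := ⟨_, rfl⟩
  have hL' : Cfsg.IsProjReflectionGroupModThree
      (↥(Subgroup.closure X) ⧸ Subgroup.center ↥(Subgroup.closure X)) 6 1 c₃ := by subst hX; exact hL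
  obtain ⟨hcore, hdvd, hone⟩ := projRefl_facts hc₃ hL'
  -- fibred members of `X` centralize `X`
  have hBX : ∀ y ∈ Bs, y ∈ X → ∀ w ∈ X, Commute y w := by
    intro y hy hyX w hwX
    obtain ⟨hyE, y', hy', hne, hR⟩ := (hBs y).1 hy
    rw [hX] at hyX
    have hy'X : y' ∈ X := by
      rw [hX]
      refine ⟨⟨hy', fun e => ?_, ((hR d hd).1 hyX.1.2.2.symm).symm⟩,
        hy', fun e => ?_, ((hR c hc).1 hyX.2.2.2.symm).symm⟩
      · exact hdc (e ▸ (hR c hc).1 hyX.2.2.2.symm)
      · exact hdc (e ▸ (hR d hd).1 hyX.1.2.2.symm : Commute c d).symm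
    obtain ⟨z, hz⟩ : ∃ z : ↥(Subgroup.closure X), (z : G) = y * y' :=
      ⟨⟨_, mul_mem (Subgroup.subset_closure (hX ▸ hyX)) (Subgroup.subset_closure hy'X)⟩, rfl⟩
    have hz2 : z ∈ Cfsg.pCore 2 ↥(Subgroup.closure X) :=
      Lib.Core.le_pCore' (Subgroup.Normal.comap inferInstance _)
        ((Lib.Core.pCore_isPGroup 2 G).comap_subtype)
        (show (Subgroup.closure X).subtype z ∈ Cfsg.pCore 2 G by
          rw [Subgroup.coe_subtype, hz]; exact same_mem_pCore hE hyE hy' hR)
    have hz3 : z ∈ Subgroup.center ↥(Subgroup.closure X) := by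
      have := Lib.Core.map_pCore_le (p := 2) (QuotientGroup.mk' (Subgroup.center ↥(Subgroup.closure X)))
        (QuotientGroup.mk'_surjective _) ⟨z, hz2, rfl⟩
      rw [hcore, Subgroup.mem_bot] at this
      exact (QuotientGroup.eq_one_iff z).1 this
    have h1 : y * y' * w = w * (y * y') := by
      have := congrArg Subtype.val (Subgroup.mem_center_iff.1 hz3 ⟨w, Subgroup.subset_closure hwX⟩)
      simpa [hz] using this.symm
    by_contra hn
    have hwE : w ∈ E := by rw [hX] at hwX; exact hwX.1.1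
    have hn' : ¬ Commute y' w := fun h => hn ((hR w hwE).2 h)
    refine hne ?_
    have h2 : y' * w * y' = y * w * y := by
      calc y' * w * y' = y * (y * y' * w) * y' := by
            simp only [← mul_assoc]; rw [e_sq hE hyE, one_mul]
        _ = y * w * y := by rw [h1]; simp only [mul_assoc]; rw [e_sq hE hy', mul_one]
    rw [e_braid hE hy' hwE hn', e_braid hE hyE hwE hn] at h2
    exact mul_left_cancel (mul_right_cancel h2)
  have hsurjX : ∀ T : Subgroup G, ∀ hT : T ≤ Subgroup.closure X, (∀ s ∈ X, s ∈ T ∨ ∀ w ∈ X, Commute s w) →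
      Nat.card (↥(Subgroup.closure X) ⧸ Subgroup.center ↥(Subgroup.closure X)) =
        Nat.card (↥T ⧸ Subgroup.center ↥T) := by
    intro T hT hcov
    refine card_quot_center hT ?_
    rw [← MonoidHom.range_eq_top, eq_top_iff]
    rintro q -
    obtain ⟨⟨g, hg⟩, rfl⟩ := QuotientGroup.mk_surjective q
    induction hg using Subgroup.closure_induction with
    | mem s hs =>
      rcases hcov s hs with h | h
      · exact ⟨⟨s, h⟩, rfl⟩
      · refine ⟨1, ?_⟩
        rw [map_one, eq_comm, QuotientGroup.eq_one_iff, Subgroup.mem_center_iff]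
        rintro ⟨g, hg⟩
        refine Subtype.ext ?_
        show g * s = s * g
        have hle : Subgroup.closure X ≤ Subgroup.centralizer ({s} : Set G) :=
          (Subgroup.closure_le _).2 fun w hw => Subgroup.mem_centralizer_singleton_iff.2 (h w hw).eq.symm
        exact Subgroup.mem_centralizer_singleton_iff.1 (hle hg)
    | one => exact one_mem _
    | mul x y hx hy ihx ihy => exact mul_mem ihx ihy
    | inv x hx ih => exact inv_mem ih
  by_cases hdB : d ∈ Bs
  · -- the members with trivial fibre commute with `d` and `c`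
    have hcB : c ∈ Bs := by
      by_contra h
      exact hdc (hsplit d hdB c hc h)
    obtain ⟨Tr, hTr⟩ : ∃ Tr : Set G, Tr = {x | x ∈ E ∧ x ∉ Bs} := ⟨_, rfl⟩
    have hTrX : Tr ⊆ X := by
      rw [hTr, hX]
      rintro x ⟨hx, hxn⟩
      exact ⟨⟨hx, fun e => hxn (e ▸ hdB), hsplit d hdB x hx hxn⟩,
        hx, fun e => hxn (e ▸ hcB), hsplit c hcB x hx hxn⟩
    haveI hTn : (Subgroup.closure Tr).Normal := ⟨fun n hn g => by
      have : (Subgroup.closure Tr).map (MulAut.conj g).toMonoidHom ≤ Subgroup.closure Tr := by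
        rw [MonoidHom.map_closure]
        refine Subgroup.closure_mono ?_
        rintro _ ⟨x, hx, rfl⟩
        rw [hTr] at hx ⊢
        exact ⟨hE.2.1 g x hx.1, fun h => hx.2 (by simpa [mul_assoc] using hconjB g⁻¹ _ h)⟩
      exact this ⟨n, hn, rfl⟩⟩
    have hcardX := hsurjX (Subgroup.closure Tr) (Subgroup.closure_mono hTrX) fun s hs => by
      by_cases h : s ∈ Bs
      · exact Or.inr (hBX s h hs)
      · exact Or.inl (Subgroup.subset_closure (hTr ▸ ⟨(hX ▸ hs).1.1, h⟩))
    obtain ⟨H, hH⟩ : ∃ H, H = Subgroup.closure {y : G | y ∈ E ∧ y ≠ d ∧ Commute d y} := ⟨_, rfl⟩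
    have hTH : Subgroup.closure Tr ≤ Subgroup.closure {y : G | y ∈ E ∧ y ≠ d ∧ Commute d y} :=
      Subgroup.closure_mono fun x hx => (hX ▸ hTrX hx).1
    haveI hU := psu_simple hF' (n := 6) (by norm_num)
    haveI := eH.isSimpleGroup
    have hn : ((QuotientGroup.mk' (Subgroup.center _)).comp (Subgroup.inclusion hTH)).range.Normal := by
      rw [MonoidHom.range_comp, Subgroup.inclusion_range]
      exact Subgroup.Normal.map inferInstance _ (QuotientGroup.mk'_surjective _)
    rcases hn.eq_bot_or_eq_top with hb | ht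
    · -- the trivial fibres centralize each other
      have hcomm : ∀ x ∈ Tr, ∀ y ∈ Tr, Commute x y := by
        intro x hx y hy
        have hx' : ((QuotientGroup.mk' (Subgroup.center _)).comp (Subgroup.inclusion hTH))
            ⟨x, Subgroup.subset_closure hx⟩ ∈
              ((QuotientGroup.mk' (Subgroup.center _)).comp (Subgroup.inclusion hTH)).range :=
          MonoidHom.mem_range.2 ⟨_, rfl⟩
        rw [hb, Subgroup.mem_bot] at hx'
        have := congrArg Subtype.val (Subgroup.mem_center_iff.1 ((QuotientGroup.eq_one_iff _).1 hx')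
          ⟨y, Subgroup.subset_closure (hX ▸ hTrX hy).1⟩)
        exact this.symm
      have hempty : Tr = ∅ := by
        refine Set.eq_empty_iff_forall_notMem.2 fun x hx => ?_
        obtain ⟨e, he, hne⟩ := hnc x (hTr ▸ hx).1
        by_cases h : e ∈ Bs
        · exact hne (hsplit e h x (hTr ▸ hx).1 (hTr ▸ hx).2).symm
        · exact hne (hcomm x hx e (hTr ▸ ⟨he, h⟩))
      have h0 : Subgroup.closure Tr = ⊥ := by rw [hempty, Subgroup.closure_empty]
      haveI : Subsingleton ↥(Subgroup.closure Tr) := by rw [h0]; infer_instance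
      exact hone (by rw [hcardX]; exact Nat.card_eq_one_iff_unique.2 ⟨inferInstance, inferInstance⟩)
    · refine hdvd ?_
      rw [hcardX, ← card_quot_center hTH (MonoidHom.range_eq_top.1 ht), Nat.card_congr eH.toEquiv]
      exact dvd_card_psu hF'
  · -- the fibred members lie in `X`
    have hcB : c ∉ Bs := fun h => hdc (hsplit c h d hd hdB).symm
    have hsub : ∀ x ∈ Bs, x ∈ X := fun x hx => by
      rw [hX]
      have hxE := ((hBs x).1 hx).1
      exact ⟨⟨hxE, fun e => hdB (e ▸ hx), (hsplit x hx d hd hdB).symm⟩,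
        hxE, fun e => hcB (e ▸ hx), (hsplit x hx c hc hcB).symm⟩
    obtain ⟨e, he, hne⟩ := hnc a₀ ha₀
    by_cases h : e ∈ Bs
    · exact hne (hBX a₀ ha₀' (hsub a₀ ha₀') e (hsub e h))
    · exact hne (hsplit a₀ ha₀' e he h)

end Sep

end Cfsg.Lib.Fischer.Relations
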